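import Mathlib
import Cfsg.Agent.S0205

/-!
A perfect group of automorphisms preserving an anisotropic quadratic map between elementary abelian
2-groups is trivial.
-/

set_option autoImplicit false
set_option linter.unusedSectionVars false

namespace Cfsg.Agent.Grp.OutOmega

universe v

/-- A crossed homomorphism to an abelian group with trivial action vanishes on a perfect group. -/
theorem add_eq_zero_of_perfect {M A : Type*} [Group M] [AddCommGroup A] (hM : commutator M = ⊤)
    (δ : M → A) (h : ∀ g k, δ (g * k) = δ g + δ k) (g : M) : δ g = 0 := by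
  let f : M →* Multiplicative A :=
    MonoidHom.mk' (fun x => Multiplicative.ofAdd (δ x)) (fun a b => by rw [h, ofAdd_add])
  have h1 : g ∈ f.ker := Abelianization.commutator_subset_ker f (hM ▸ Subgroup.mem_top g)
  exact Multiplicative.ofAdd.injective (MonoidHom.mem_ker.mp h1)

/-- The polar of a map. -/
def polar {V Q : Type*} [AddCommGroup V] [AddCommGroup Q] (q : V → Q) (u v : V) : Q :=
  q (u + v) - q u - q v

/-- An anisotropic quadratic map between elementary abelian 2-groups. -/
structure IsAniso {V Q : Type*} [AddCommGroup V] [AddCommGroup Q] (q : V → Q) : Prop where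
  add_left : ∀ u v w, polar q (u + v) w = polar q u w + polar q v w
  zero : ∀ v, q v = 0 → v = 0
  two : ∀ v : V, v + v = 0
  two' : ∀ a : Q, a + a = 0

section basic

variable {V Q : Type*} [AddCommGroup V] [AddCommGroup Q] {q : V → Q} (hq : IsAniso q)
include hq

theorem IsAniso.q_zero : q 0 = 0 := by
  have h := hq.add_left 0 0 0
  simp only [polar, add_zero, sub_self, zero_sub] at h
  have h2 := hq.two' (q 0)
  have : -q 0 = 0 := left_eq_add.mp h
  exact neg_eq_zero.mp this

theorem IsAniso.neg_q (a : Q) : -a = a := neg_eq_of_add_eq_zero_left (hq.two' a)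

theorem IsAniso.neg_v (a : V) : -a = a := neg_eq_of_add_eq_zero_left (hq.two a)

theorem IsAniso.comm (u v : V) : polar q u v = polar q v u := by
  rw [polar, polar, add_comm u v]; abel

theorem IsAniso.add_right (u v w : V) : polar q u (v + w) = polar q u v + polar q u w := by
  rw [hq.comm, hq.add_left, hq.comm v, hq.comm w]

theorem IsAniso.q_add (u v : V) : q (u + v) = q u + q v + polar q u v := by
  rw [polar]; abel

theorem IsAniso.polar_zero_left (v : V) : polar q 0 v = 0 := by
  rw [polar, zero_add, hq.q_zero]; abel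

/-- The right polar as an additive map. -/
def IsAniso.hom (u : V) : V →+ Q := AddMonoidHom.mk' (polar q u) (hq.add_right u)

theorem IsAniso.hom_apply (u v : V) : hq.hom u v = polar q u v := rfl

theorem IsAniso.sub_right (u v w : V) : polar q u (v - w) = polar q u v - polar q u w :=
  (hq.hom u).map_sub v w

variable {M : Type*} [Group M] {ρ : M →* AddMonoid.End V} (hinv : ∀ g v, q (ρ g v) = q v)
include hinv

theorem IsAniso.polar_inv (g : M) (u v : V) : polar q (ρ g u) (ρ g v) = polar q u v := by
  rw [polar, polar, ← map_add, hinv, hinv, hinv]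

end basic

theorem rho_mul {V M : Type*} [AddCommGroup V] [Group M] (ρ : M →* AddMonoid.End V) (g k : M) (v : V) :
    ρ (g * k) v = ρ g (ρ k v) := by rw [map_mul]; rfl

theorem rho_inv {V M : Type*} [AddCommGroup V] [Group M] (ρ : M →* AddMonoid.End V) (g : M) (v : V) :
    ρ g (ρ g⁻¹ v) = v := by rw [← rho_mul, mul_inv_cancel, map_one]; rfl

theorem rho_inv' {V M : Type*} [AddCommGroup V] [Group M] (ρ : M →* AddMonoid.End V) (g : M) (v : V) :
    ρ g⁻¹ (ρ g v) = v := by rw [← rho_mul, inv_mul_cancel, map_one]; rfl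

set_option maxHeartbeats 1000000 in
/-- The irreducible case. -/
theorem aniso_irreducible {M : Type*} [Group M] [Finite M] (hM : commutator M = ⊤)
    {V Q : Type*} [AddCommGroup V] [Finite V] [AddCommGroup Q] [Finite Q] {q : V → Q}
    (hq : IsAniso q) (hspan : AddSubgroup.closure (Set.range q) = ⊤) {ρ : M →* AddMonoid.End V}
    (hρ : Function.Injective ρ) (hinv : ∀ g v, q (ρ g v) = q v)
    (hirr : ∀ W : AddSubgroup V, (∀ g, ∀ w ∈ W, ρ g w ∈ W) → W = ⊥ ∨ W = ⊤) : ∀ g : M, g = 1 := by
  classical
  by_contra hcon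
  push Not at hcon
  obtain ⟨g₁, hg₁⟩ := hcon
  haveI : Nontrivial M := ⟨⟨g₁, 1, hg₁⟩⟩
  haveI : Fact (Nat.Prime 2) := ⟨Nat.prime_two⟩
  obtain ⟨v₁, hv₁⟩ : ∃ v, ρ g₁ v ≠ v := by
    by_contra h
    push Not at h
    exact hg₁ (hρ (by rw [map_one]; exact AddMonoidHom.ext h))
  -- the group has even order
  have heven : 2 ∣ Nat.card M := by
    by_contra hodd
    have hs : Group.IsSolvable M := Cfsg.Agent.S0205.result (by
      rw [Nat.odd_iff]; omega)
    exact (Group.IsSolvable.commutator_lt_top_of_nontrivial M).ne hM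
  obtain ⟨P⟩ := (inferInstance : Nonempty (Sylow 2 M))
  have hPne : (P : Subgroup M) ≠ ⊥ := P.ne_bot_of_dvd_card heven
  haveI : Nontrivial (P : Subgroup M) := (Subgroup.nontrivial_iff_ne_bot _).mpr hPne
  haveI : Nontrivial (Subgroup.center (P : Subgroup M)) := P.2.center_nontrivial
  obtain ⟨z, hz⟩ := exists_prime_orderOf_dvd_card' (G := Subgroup.center (P : Subgroup M)) 2 (by
    obtain ⟨k, hk, hc⟩ := (P.2.to_subgroup (Subgroup.center (P : Subgroup M))).nontrivial_iff_card.mp
      inferInstance
    rw [hc]; exact dvd_pow_self 2 hk.ne')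
  set t : M := ((z : (P : Subgroup M)) : M) with ht
  have htP : t ∈ (P : Subgroup M) := (z : (P : Subgroup M)).2
  have htc : ∀ g ∈ (P : Subgroup M), g * t = t * g := fun g hg =>
    congrArg Subtype.val (Subgroup.mem_center_iff.mp z.2 ⟨g, hg⟩)
  have ht2 : t * t = 1 := by
    have h := pow_orderOf_eq_one z
    rw [hz, pow_two] at h
    exact congrArg (fun x : Subgroup.center (P : Subgroup M) => ((x : (P : Subgroup M)) : M)) h
  have ht1 : t ≠ 1 := fun h => by
    have : z = 1 := Subtype.ext (Subtype.ext h)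
    rw [this, orderOf_one] at hz; omega
  -- the moved space of `t`
  let W : AddSubgroup V := (ρ t - 1 : AddMonoid.End V).range
  have hWmem : ∀ w, w ∈ W ↔ ∃ u, ρ t u - u = w := fun w => Iff.rfl
  have hWP : ∀ g ∈ (P : Subgroup M), ∀ w ∈ W, ρ g w ∈ W := by
    intro g hg w hw
    obtain ⟨u, rfl⟩ := (hWmem w).mp hw
    exact (hWmem _).mpr ⟨ρ g u, by rw [map_sub, ← rho_mul, ← rho_mul, htc g hg]⟩
  letI : MulAction (P : Subgroup M) W :=
    { smul := fun g w => ⟨ρ (g : M) (w : V), hWP g g.2 w w.2⟩
      one_smul := fun w => Subtype.ext (by show ρ (1 : M) (w : V) = w; rw [map_one]; rfl)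
      mul_smul := fun g k w => Subtype.ext (rho_mul ρ g k w) }
  have hWne : Nontrivial W := by
    rw [AddSubgroup.nontrivial_iff_ne_bot]
    intro h
    refine ht1 (hρ ?_)
    rw [map_one]
    refine AddMonoidHom.ext fun u => sub_eq_zero.mp ?_
    have : ρ t u - u ∈ W := (hWmem _).mpr ⟨u, rfl⟩
    rw [h] at this
    exact AddSubgroup.mem_bot.mp this
  obtain ⟨v, hvW, hv0, hvfix⟩ : ∃ v ∈ W, v ≠ 0 ∧ ∀ g ∈ (P : Subgroup M), ρ g v = v := by
    obtain ⟨⟨w, hw⟩, hw0⟩ := exists_ne (0 : W)
    have h2 : addOrderOf (⟨w, hw⟩ : W) = 2 := addOrderOf_eq_prime (by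
      rw [two_nsmul]; exact Subtype.ext (hq.two w)) hw0
    obtain ⟨b, hb, hb0⟩ := P.2.exists_fixed_point_of_prime_dvd_card_of_fixed_point W
      (h2 ▸ addOrderOf_dvd_natCard _) (a := (0 : W))
      (fun g => Subtype.ext (map_zero (ρ (g : M))))
    exact ⟨b, b.2, fun h => hb0 (Subtype.ext h.symm), fun g hg => congrArg Subtype.val (hb ⟨g, hg⟩)⟩
  -- the commutant
  let E : Subring (AddMonoid.End V) := Subring.centralizer (Set.range ρ)
  have hEc : ∀ (e : E) (g : M) (u : V), ρ g ((e : AddMonoid.End V) u) = (e : AddMonoid.End V) (ρ g u) :=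
    fun e g u => DFunLike.congr_fun (Subring.mem_centralizer_iff.mp e.2 _ ⟨g, rfl⟩) u
  haveI : Finite (AddMonoid.End V) := Finite.of_injective _ DFunLike.coe_injective
  have hEinj : ∀ e : E, e ≠ 0 → Function.Injective (e : AddMonoid.End V) := by
    intro e he
    let eh : V →+ V := (e : AddMonoid.End V)
    rcases hirr eh.ker (fun g w hw => by
      have hw' : (e : AddMonoid.End V) w = 0 := hw
      show (e : AddMonoid.End V) (ρ g w) = 0
      rw [← hEc, hw', map_zero]) with h | h
    · exact (AddMonoidHom.ker_eq_bot_iff eh).mp h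
    · refine absurd (Subtype.ext (AddMonoidHom.ext fun u => ?_)) he
      exact (h.ge (AddSubgroup.mem_top u) : u ∈ eh.ker)
  haveI : Nontrivial V := ⟨⟨v, 0, hv0⟩⟩
  haveI : NoZeroDivisors E := ⟨fun {a b} h => by
    by_contra hab
    push Not at hab
    refine hab.2 (Subtype.ext (AddMonoidHom.ext fun u => hEinj a hab.1 ?_))
    have := congrArg (fun e : E => (e : AddMonoid.End V) u) h
    exact this.trans (map_zero (a : AddMonoid.End V)).symm⟩
  haveI : Nontrivial E := ⟨⟨1, 0, fun h => hv0 (congrArg (fun e : E => (e : AddMonoid.End V) v) h)⟩⟩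
  haveI : IsDomain E := NoZeroDivisors.to_isDomain _
  have hfield : IsField E := Finite.isDomain_to_isField E
  set act : E → V → V := fun e u => (e : AddMonoid.End V) u with hact
  have act_mul : ∀ (e f : E) u, act (e * f) u = act e (act f u) := fun e f u => rfl
  have act_add : ∀ (e f : E) u, act (e + f) u = act e u + act f u := fun e f u => rfl
  have act_v : Function.Injective fun e : E => act e v := fun e f h => by
    by_contra hne
    refine hv0 (hEinj (e - f) (sub_ne_zero.mpr hne) ?_)
    rw [map_zero]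
    exact sub_eq_zero.mpr h
  -- `W` is perpendicular to the fixed points of `t`
  have hperp : ∀ c, ρ t c = c → ∀ w ∈ W, polar q c w = 0 := by
    intro c hc w hw
    obtain ⟨u, rfl⟩ := (hWmem w).mp hw
    rw [hq.sub_right, sub_eq_zero]
    conv_lhs => rw [← hc]
    exact hq.polar_inv hinv t c u
  have hfix : ∀ (e : E) (g : M), g ∈ (P : Subgroup M) → ρ g (act e v) = act e v := fun e g hg => by
    rw [hact]; simp only; rw [hEc, hvfix g hg]
  have hevW : ∀ e : E, act e v ∈ W := fun e => by
    obtain ⟨u, hu⟩ := (hWmem v).mp hvW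
    refine (hWmem _).mpr ⟨act e u, ?_⟩
    rw [hact]; simp only
    rw [hEc, ← map_sub, hu]
  let a : E →+ Q := AddMonoidHom.mk' (fun e => q (act e v)) (fun e f => by
    rw [act_add, hq.q_add, hperp _ (hfix e t htP) _ (hevW f), add_zero])
  have ha : Function.Injective a := by
    rw [injective_iff_map_eq_zero]
    exact fun e he => act_v ((hq.zero _ he).trans rfl)
  -- functionals
  letI : Module (ZMod 2) V := AddCommGroup.zmodModule (n := 2) (fun x => by rw [two_nsmul]; exact hq.two x)
  letI : Module (ZMod 2) Q := AddCommGroup.zmodModule (n := 2) (fun x => by rw [two_nsmul]; exact hq.two' x)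
  haveI : Module.Finite (ZMod 2) V := Module.Finite.of_finite
  haveI : Module.Finite (ZMod 2) Q := Module.Finite.of_finite
  let β : V →+ (V →+ Q) := AddMonoidHom.mk' hq.hom (fun u w => AddMonoidHom.ext fun x => hq.add_left u w x)
  have hβ : ∀ u w, β u w = polar q u w := fun u w => rfl
  let θ : Module.Dual (ZMod 2) Q → V →ₗ[ZMod 2] Module.Dual (ZMod 2) V := fun ψ =>
    AddMonoidHom.toZModLinearMap 2 (AddMonoidHom.mk'
      (fun u => AddMonoidHom.toZModLinearMap 2 (ψ.toAddMonoidHom.comp (β u)))
      (fun u w => LinearMap.ext fun x => by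
        show ψ (β (u + w) x) = ψ (β u x) + ψ (β w x)
        rw [map_add, AddMonoidHom.add_apply, map_add]))
  have hθ : ∀ ψ u w, θ ψ u w = ψ (polar q u w) := fun ψ u w => rfl
  have hsep : ∀ ψ : Module.Dual (ZMod 2) Q, (∀ u w, ψ (polar q u w) = 0) → ψ = 0 := by
    intro ψ hψ
    let f : V →+ ZMod 2 := AddMonoidHom.mk' (fun u => ψ (q u)) (fun u w => by
      rw [hq.q_add, map_add, map_add, hψ, add_zero])
    have hker : ∀ g w, w ∈ f.ker → ρ g w ∈ f.ker := fun g w hw => by
      rw [AddMonoidHom.mem_ker] at hw ⊢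
      show ψ (q (ρ g w)) = 0
      rw [hinv]; exact hw
    rcases hirr f.ker hker with h | h
    · exfalso
      refine hv₁ (sub_eq_zero.mp (AddSubgroup.mem_bot.mp (h ▸ ?_ : ρ g₁ v₁ - v₁ ∈ (⊥ : AddSubgroup V))))
      rw [AddMonoidHom.mem_ker, map_sub, sub_eq_zero]
      show ψ (q _) = ψ (q _)
      rw [hinv]
    · refine LinearMap.ext fun x => ?_
      have hle : AddSubgroup.closure (Set.range q) ≤ ψ.toAddMonoidHom.ker := by
        refine (AddSubgroup.closure_le _).mpr ?_
        rintro _ ⟨u, rfl⟩
        exact AddMonoidHom.mem_ker.mp (h ▸ AddSubgroup.mem_top u : u ∈ f.ker)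
      exact hle (hspan ▸ AddSubgroup.mem_top x)
  haveI : Nontrivial Q := ⟨⟨q v, 0, fun h => hv0 (hq.zero v h)⟩⟩
  obtain ⟨ψ₀, hψ₀⟩ := exists_ne (0 : Module.Dual (ZMod 2) Q)
  have hθ₀ : Function.Injective (θ ψ₀) := by
    rw [← LinearMap.ker_eq_bot]
    rcases hirr (LinearMap.ker (θ ψ₀)).toAddSubgroup (fun g w hw => by
      refine LinearMap.mem_ker.mpr (LinearMap.ext fun x => ?_)
      have h1 := DFunLike.congr_fun (LinearMap.mem_ker.mp hw) (ρ g⁻¹ x)
      rw [hθ] at h1 ⊢
      rw [← rho_inv ρ g x, hq.polar_inv hinv]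
      exact h1) with h | h
    · exact Submodule.toAddSubgroup_injective h
    · refine absurd (hsep ψ₀ fun u w => ?_) hψ₀
      exact DFunLike.congr_fun (LinearMap.mem_ker.mp (h ▸ AddSubgroup.mem_top u :
        u ∈ (LinearMap.ker (θ ψ₀)).toAddSubgroup)) w
  let θe : V ≃ₗ[ZMod 2] Module.Dual (ZMod 2) V :=
    LinearEquiv.ofBijective (θ ψ₀) ⟨hθ₀,
      (LinearMap.injective_iff_surjective_of_finrank_eq_finrank Subspace.dual_finrank_eq.symm).mp hθ₀⟩
  have hθe : ∀ u w, θe u w = ψ₀ (polar q u w) := fun u w => rfl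
  -- twisting by invariant forms
  have twist : ∀ T : V →ₗ[ZMod 2] Module.Dual (ZMod 2) V, (∀ g u w, T (ρ g u) (ρ g w) = T u w) →
      ∃ e : E, ∀ u w, ψ₀ (polar q (act e u) w) = T u w := by
    intro T hT
    let e : AddMonoid.End V := (θe.symm.toLinearMap.comp T).toAddMonoidHom
    have he : ∀ u w, ψ₀ (polar q (e u) w) = T u w := fun u w => by
      rw [← hθe]
      exact DFunLike.congr_fun (θe.apply_symm_apply (T u)) w
    refine ⟨⟨e, Subring.mem_centralizer_iff.mpr ?_⟩, he⟩
    rintro _ ⟨g, rfl⟩
    refine AddMonoidHom.ext fun u => θe.injective (LinearMap.ext fun w => ?_)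
    show θe (ρ g (e u)) w = θe (e (ρ g u)) w
    rw [hθe, hθe, he, ← rho_inv ρ g w, hq.polar_inv hinv, he, hT]
  choose eψ heψ using fun ψ : Module.Dual (ZMod 2) Q =>
    twist (θ ψ) (fun g u w => by rw [hθ, hθ, hq.polar_inv hinv])
  have hsep2 : ∀ a b : Q, (∀ ψ : Module.Dual (ZMod 2) Q, ψ a = ψ b) → a = b := fun a b h => by
    rw [← sub_eq_zero]
    refine (Module.forall_dual_apply_eq_zero_iff (ZMod 2) _).mp fun ψ => ?_
    rw [map_sub, h, sub_self]
  have hadj : ∀ x : E, ∃ y : E, ∀ u w, polar q (act y u) w = polar q u (act x w) := by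
    intro x
    let T : V →ₗ[ZMod 2] Module.Dual (ZMod 2) V :=
      AddMonoidHom.toZModLinearMap 2 (AddMonoidHom.mk'
        (fun u => (θ ψ₀ u).comp (AddMonoidHom.toZModLinearMap 2 (x : AddMonoid.End V)))
        (fun u w => by rw [map_add]; rfl))
    have hT : ∀ u w, T u w = ψ₀ (polar q u (act x w)) := fun u w => rfl
    obtain ⟨y, hy⟩ := twist T (fun g u w => by
      rw [hT, hT, hact]; simp only; rw [← hEc, hq.polar_inv hinv])
    refine ⟨y, fun u w => hsep2 _ _ fun ψ => ?_⟩
    rw [← hθ, ← heψ, ← act_mul, hfield.mul_comm, act_mul, hy, hT, ← hθ ψ u, ← heψ]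
  choose bar hbar using hadj
  -- `a` is onto
  have hEQ : ∀ b : Q, ∃ e, a e = b := by
    have h1 : Nat.card (Module.Dual (ZMod 2) Q) = Nat.card Q := by
      rw [Module.natCard_eq_pow_finrank (K := ZMod 2), Subspace.dual_finrank_eq,
        ← Module.natCard_eq_pow_finrank]
    have h2 : Nat.card (Module.Dual (ZMod 2) Q) ≤ Nat.card E := by
      refine Nat.card_le_card_of_injective eψ fun ψ ψ' h => sub_eq_zero.mp (hsep _ fun u w => ?_)
      have h3 := heψ ψ u w
      rw [h, heψ ψ' u w, hθ, hθ] at h3
      rw [LinearMap.sub_apply, h3, sub_self]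
    exact (ha.bijective_of_nat_card_le (h1 ▸ h2)).2
  -- the perpendicular of `v` is the line of `v`
  have hH : ∀ u, (∀ e, polar q (act e v) u = 0) → ∃ e, act e v = u := by
    intro u hu
    obtain ⟨e, he⟩ := hEQ (q u)
    refine ⟨e, ?_⟩
    have h1 : q (act e v + u) = 0 := by
      rw [hq.q_add, hu, add_zero]
      show a e + q u = 0
      rw [he, hq.two']
    rw [← hq.neg_v u]
    exact add_eq_zero_iff_eq_neg.mp (hq.zero _ h1)
  obtain ⟨v', hv'⟩ : ∃ v', ∀ e, act e v ≠ v' := by
    by_contra h
    push Not at h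
    refine ht1 (hρ (AddMonoidHom.ext fun u => ?_))
    obtain ⟨e, rfl⟩ := h u
    rw [map_one]; exact hfix e t htP
  -- the translation of an element of `P`
  have htr : ∀ g ∈ (P : Subgroup M), ∀ u, ∃ l, ρ g u = u + act l v := by
    intro g hg u
    obtain ⟨l, hl⟩ := hH (ρ g u - u) fun e => by
      rw [hq.sub_right, sub_eq_zero]
      conv_lhs => rw [← hfix e g hg]
      exact hq.polar_inv hinv g _ _
    exact ⟨l, by rw [hl]; abel⟩
  -- non-identity elements fix nothing outside the line
  have hfree : ∀ g ∈ (P : Subgroup M), ρ g v' = v' → g = 1 := by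
    intro g hg hfx
    by_contra hne
    obtain ⟨u, hu⟩ : ∃ u, ρ g u ≠ u := by
      by_contra h
      push Not at h
      exact hne (hρ (by rw [map_one]; exact AddMonoidHom.ext h))
    obtain ⟨l, hl⟩ := htr g hg u
    have hl0 : l ≠ 0 := fun h => hu (by
      rw [hl, h]; show u + (0 : AddMonoid.End V) v = u; exact add_zero u)
    obtain ⟨l', hl'⟩ := hfield.mul_inv_cancel hl0
    obtain ⟨e, he⟩ := hH v' fun e => by
      have h1 : act e v = act (e * l') (act l v) := by
        rw [← act_mul, mul_assoc, hfield.mul_comm l', hl', mul_one]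
      rw [h1, hq.comm, ← hbar]
      have h2 : act l v = ρ g u - u := by rw [hl]; abel
      have h3 : ρ g (act (bar (e * l')) v') = act (bar (e * l')) v' := by
        rw [hact]; simp only; rw [hEc, hfx]
      rw [h2, hq.sub_right, sub_eq_zero]
      conv_lhs => rw [← h3]
      exact hq.polar_inv hinv g _ _
    exact hv' e he
  -- all translations at `v'` agree
  let φ : E → Q := fun e => polar q v' (act e v)
  have hval : ∀ g ∈ (P : Subgroup M), ∀ l, ρ g v' = v' + act l v → ∀ x,
      a (x * l) = φ (bar x * x * l) := by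
    intro g hg l hl x
    have h1 := hinv g (act x v')
    have h2 : ρ g (act x v') = act x v' + act (x * l) v := by
      rw [hact]; simp only
      rw [hEc, hl, map_add]
      rfl
    rw [h2, hq.q_add, add_assoc] at h1
    have h3 := (add_left_cancel (a := q (act x v')) (h1.trans (add_zero _).symm))
    have h4 : polar q (act x v') (act (x * l) v) = φ (bar x * x * l) := by
      show _ = polar q v' (act (bar x * x * l) v)
      rw [mul_assoc, act_mul (bar x), hq.comm v', hbar, hq.comm]
    rw [h4] at h3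
    exact (eq_neg_of_add_eq_zero_left h3).trans (hq.neg_q _)
  obtain ⟨lt, hlt⟩ := htr t htP v'
  have hlt0 : lt ≠ 0 := fun h => ht1 (hfree t htP (by
    rw [hlt, h]; show v' + (0 : AddMonoid.End V) v = v'; exact add_zero v'))
  have hN : Function.Bijective fun x : E => bar x * x * lt := by
    refine Finite.injective_iff_bijective.mp fun x y h => mul_right_cancel₀ hlt0 (ha ?_)
    rw [hval t htP lt hlt, hval t htP lt hlt]
    exact congrArg φ h
  have hφ : Function.Injective φ := by
    intro e e' h
    obtain ⟨x, rfl⟩ := hN.2 e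
    obtain ⟨y, rfl⟩ := hN.2 e'
    simp only at h ⊢
    rw [← hval t htP lt hlt, ← hval t htP lt hlt] at h
    rw [mul_right_cancel₀ hlt0 (ha h)]
  have hbar1 : ∀ r, bar r = 1 → r = 1 := by
    intro r hr
    refine Subtype.ext (AddMonoidHom.ext fun w => θe.injective (LinearMap.ext fun u => ?_))
    rw [hθe, hθe, hq.comm, hq.comm _ u]
    show ψ₀ (polar q u (act r w)) = ψ₀ (polar q u w)
    rw [← hbar, hr]
    rfl
  have hone : bar 1 = 1 := by
    refine Subtype.ext (AddMonoidHom.ext fun u => θe.injective (LinearMap.ext fun w => ?_))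
    rw [hθe, hθe]
    exact congrArg ψ₀ (hbar 1 u w)
  have heq : ∀ g ∈ (P : Subgroup M), g ≠ 1 → g = t := by
    intro g hg hg1
    obtain ⟨l, hl⟩ := htr g hg v'
    obtain ⟨r, hr⟩ : ∃ r, r * lt = l := by
      obtain ⟨i, hi⟩ := hfield.mul_inv_cancel hlt0
      exact ⟨l * i, by rw [mul_assoc, hfield.mul_comm i, hi, mul_one]⟩
    have hr0 : r ≠ 0 := fun h => hg1 (hfree g hg (by
      rw [hl, ← hr, h, zero_mul]; show v' + (0 : AddMonoid.End V) v = v'; exact add_zero v'))
    have h1 := hval g hg l hl 1
    have h2 := hval t htP lt hlt r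
    rw [one_mul, hone, one_mul, one_mul, ← hr, h2] at h1
    have h3 := hφ h1
    have h4 : bar r = 1 := mul_right_cancel₀ hr0 (by
      rw [one_mul]; exact mul_right_cancel₀ hlt0 h3)
    have h5 : r = 1 := hbar1 r h4
    rw [h5, one_mul] at hr
    have h6 : ρ (t * g) v' = v' := by
      rw [rho_mul, hl, map_add, hfix l t htP, hlt, hr, add_assoc]
      rw [hq.two, add_zero]
    have h7 := hfree (t * g) (mul_mem htP hg) h6
    exact ((eq_inv_of_mul_eq_one_right h7).trans (inv_eq_of_mul_eq_one_left ht2))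
  -- transfer
  have hcomm : ∀ x ∈ (P : Subgroup M), ∀ g, g * x * g⁻¹ ∈ (P : Subgroup M) → g * x * g⁻¹ = x := by
    intro x hx g hgx
    by_cases h : x = 1
    · rw [h]; group
    · have h1 : g * x * g⁻¹ ≠ 1 := fun h1 => h (conj_eq_one_iff.mp h1)
      rw [heq _ hgx h1, heq x hx h]
  have hP : Subgroup.normalizer ((P : Subgroup M) : Set M) ≤ Subgroup.centralizer ((P : Subgroup M) : Set M) := by
    intro g hg
    refine Subgroup.mem_centralizer_iff.mpr fun x hx => ?_
    have := hcomm x hx g ((Subgroup.mem_normalizer_iff.mp hg x).mp hx)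
    calc x * g = g * x * g⁻¹ * g := by rw [this]
      _ = g * x := by group
  have hcompl := MonoidHom.ker_transferSylow_isComplement' P hP
  haveI : IsMulCommutative (P : Subgroup M) :=
    ⟨⟨fun x y => Subtype.ext (hP (Subgroup.le_normalizer y.2) x x.2)⟩⟩
  letI : CommGroup (P : Subgroup M) := { (inferInstance : Group (P : Subgroup M)) with
    mul_comm := fun x y => Subtype.ext (hP (Subgroup.le_normalizer y.2) x x.2) }
  have hker : (MonoidHom.transferSylow P hP).ker = ⊤ :=
    top_le_iff.mp (hM ▸ Abelianization.commutator_subset_ker _)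
  rw [hker] at hcompl
  exact hPne (Subgroup.isComplement'_top_left.mp hcompl)

/-- A perfect group preserving an anisotropic quadratic map acts trivially. -/
theorem aniso_trivial {M : Type*} [Group M] [Finite M] (hM : commutator M = ⊤) :
    ∀ (n : ℕ) (V Q : Type v) [AddCommGroup V] [Finite V] [AddCommGroup Q] [Finite Q] (q : V → Q),
      Nat.card V = n → IsAniso q → ∀ ρ : M →* AddMonoid.End V, (∀ g v, q (ρ g v) = q v) →
      ∀ g v, ρ g v = v := by
  intro n
  induction n using Nat.strong_induction_on with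
  | _ n ih =>
  intro V Q _ _ _ _ q hn hq ρ hinv
  classical
  let δ : M → V → V := fun g v => ρ g v - v
  let D : AddSubgroup V := AddSubgroup.closure {w | ∃ g v, δ g v = w}
  have hDmem : ∀ g v, δ g v ∈ D := fun g v => AddSubgroup.subset_closure ⟨g, v, rfl⟩
  -- restriction to an invariant subgroup
  have hres : ∀ U : AddSubgroup V, (∀ g, ∀ u ∈ U, ρ g u ∈ U) → U ≠ ⊤ → ∀ g, ∀ u ∈ U, ρ g u = u := by
    intro U hU hne g u hu
    let σ : M →* AddMonoid.End U :=
      { toFun := fun g => AddMonoidHom.mk' (fun x => ⟨ρ g x, hU g x x.2⟩)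
          (fun x y => Subtype.ext ((ρ g).map_add x y))
        map_one' := AddMonoidHom.ext fun x => Subtype.ext (by
          show ρ 1 (x : V) = x; rw [map_one]; rfl)
        map_mul' := fun g k => AddMonoidHom.ext fun x => Subtype.ext (rho_mul ρ g k x) }
    have hlt : Nat.card U < n := hn ▸ lt_of_le_of_ne
      (Nat.le_of_dvd Nat.card_pos U.card_addSubgroup_dvd_card) fun h => hne (AddSubgroup.eq_top_of_card_eq U h)
    have hqU : IsAniso (fun x : U => q x) :=
      ⟨fun x y z => hq.add_left x y z, fun x hx => Subtype.ext (hq.zero x hx),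
        fun x => Subtype.ext (hq.two x), hq.two'⟩
    exact congrArg Subtype.val (ih _ hlt U Q (fun x : U => q x) rfl hqU σ (fun g x => hinv g x) g ⟨u, hu⟩)
  -- crossed homomorphisms
  have hcross : (∀ g v, ∀ k, ρ k (δ g v) = δ g v) → ∀ g v, ρ g v = v := by
    intro hf g v
    refine sub_eq_zero.mp (add_eq_zero_of_perfect hM (fun g => δ g v) (fun g k => ?_) g)
    show ρ (g * k) v - v = δ g v + δ k v
    rw [rho_mul]
    have h1 : ρ g (ρ k v) = ρ g (δ k v) + ρ g v := by
      rw [← map_add]; simp [δ]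
    rw [h1, hf k v g]
    simp only [δ]; abel
  by_cases hD : D = ⊤
  swap
  · refine hcross fun g v k => hres D (fun g u hu => ?_) hD k _ (hDmem g v)
    have : ρ g u = δ g u + u := by simp [δ]
    rw [this]; exact D.add_mem (hDmem g u) hu
  by_cases hirr : ∀ W : AddSubgroup V, (∀ g, ∀ w ∈ W, ρ g w ∈ W) → W = ⊥ ∨ W = ⊤
  · -- irreducible
    let Q0 : AddSubgroup Q := AddSubgroup.closure (Set.range q)
    let q0 : V → Q0 := fun v => ⟨q v, AddSubgroup.subset_closure ⟨v, rfl⟩⟩
    have hq0 : IsAniso q0 :=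
      ⟨fun x y z => Subtype.ext (hq.add_left x y z), fun x hx => hq.zero x (congrArg Subtype.val hx),
        hq.two, fun x => Subtype.ext (hq.two' x)⟩
    have hspan : AddSubgroup.closure (Set.range q0) = ⊤ := by
      refine AddSubgroup.map_injective Q0.subtype_injective ?_
      rw [AddMonoidHom.map_closure, ← AddMonoidHom.range_eq_map, AddSubgroup.range_subtype, ← Set.range_comp]
      rfl
    let f : M →* (AddMonoid.End V)ˣ := ρ.toHomUnits
    have hR : commutator f.range = ⊤ := by
      have h := congrArg (Subgroup.map f.rangeRestrict) hM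
      rw [commutator_def, Subgroup.map_commutator, Subgroup.map_top_of_surjective _ f.rangeRestrict_surjective] at h
      exact h
    haveI : Finite f.range := Finite.of_surjective _ f.rangeRestrict_surjective
    let τ : f.range →* AddMonoid.End V := (Units.coeHom _).comp f.range.subtype
    have hτ : Function.Injective τ := Units.val_injective.comp Subtype.val_injective
    have h1 := aniso_irreducible hR hq0 hspan (ρ := τ) hτ
      (fun g v => by
        obtain ⟨-, k, rfl⟩ := g
        exact Subtype.ext (hinv k v))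
      (fun W hW => hirr W fun k w hw => hW ⟨f k, k, rfl⟩ w hw)
    intro g v
    have h2 := h1 ⟨f g, g, rfl⟩
    exact DFunLike.congr_fun (congrArg Units.val (congrArg Subtype.val h2)) v
  · push Not at hirr
    obtain ⟨W, hW, hWb, hWt⟩ := hirr
    have hWfix := hres W hW hWt
    -- the fixed points
    let F : AddSubgroup V :=
      { carrier := {u | ∀ g, ρ g u = u}
        zero_mem' := fun g => map_zero (ρ g)
        add_mem' := fun {x y} hx hy g => by rw [map_add, hx g, hy g]
        neg_mem' := fun {x} hx g => by rw [map_neg, hx g] }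
    have hFperp : ∀ u ∈ F, ∀ w, polar q u w = 0 := by
      intro u hu w
      have hle : D ≤ (hq.hom u).ker := by
        refine (AddSubgroup.closure_le _).mpr ?_
        rintro _ ⟨g, x, rfl⟩
        show polar q u (ρ g x - x) = 0
        rw [hq.sub_right, sub_eq_zero]
        conv_lhs => rw [← hu g]
        exact hq.polar_inv hinv g u x
      exact hle (hD ▸ AddSubgroup.mem_top w)
    let R : AddSubgroup Q :=
      (AddMonoidHom.mk' (fun u : F => q u) (fun x y => by
        rw [AddSubgroup.coe_add, hq.q_add, hFperp _ x.2, add_zero])).range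
    have hFne : F ≠ ⊥ := fun h => hWb (le_bot_iff.mp (h ▸ fun u hu g => hWfix g u hu))
    let qb : V ⧸ F → Q ⧸ R := fun x =>
      Quotient.liftOn' x (fun v => (QuotientAddGroup.mk (q v) : Q ⧸ R)) (fun v w hvw => by
        rw [QuotientAddGroup.leftRel_apply] at hvw
        rw [QuotientAddGroup.eq]
        refine ⟨⟨_, hvw⟩, ?_⟩
        show q (-v + w) = -q v + q w
        have h1 : q w = q v + q (-v + w) := by
          conv_lhs => rw [show w = (-v + w) + v by abel]
          rw [hq.q_add, hFperp _ hvw, add_zero, add_comm]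
        rw [h1]; abel)
    have hqb : ∀ v : V, qb (QuotientAddGroup.mk v) = QuotientAddGroup.mk (q v) := fun v => rfl
    have hb : ∀ u w : V, polar qb (QuotientAddGroup.mk u) (QuotientAddGroup.mk w) =
        QuotientAddGroup.mk (polar q u w) := fun u w => rfl
    have hqba : IsAniso qb := by
      refine ⟨?_, ?_, ?_, ?_⟩
      · rintro ⟨x⟩ ⟨y⟩ ⟨z⟩
        show polar qb (QuotientAddGroup.mk (x + y)) (QuotientAddGroup.mk z) = _
        rw [hb, hq.add_left]; rfl
      · rintro ⟨x⟩ hx
        obtain ⟨⟨u, hu⟩, hux⟩ := (QuotientAddGroup.eq_zero_iff _).mp hx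
        refine (QuotientAddGroup.eq_zero_iff _).mpr ?_
        have h1 : q (u + x) = 0 := by
          rw [hq.q_add, hFperp u hu, add_zero]
          show q u + q x = 0
          rw [show q u = q x from hux, hq.two']
        rw [← hq.neg_v x, ← add_eq_zero_iff_eq_neg.mp (hq.zero _ h1)]
        exact hu
      · rintro ⟨x⟩; exact congrArg QuotientAddGroup.mk (hq.two x)
      · rintro ⟨x⟩; exact congrArg QuotientAddGroup.mk (hq.two' x)
    let σ : M →* AddMonoid.End (V ⧸ F) :=
      { toFun := fun g => QuotientAddGroup.map F F (ρ g) fun u hu => by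
          show ∀ k, ρ k (ρ g u) = ρ g u
          intro k; rw [hu g, hu k]
        map_one' := AddMonoidHom.ext fun x => by
          obtain ⟨x, rfl⟩ := QuotientAddGroup.mk_surjective x
          show QuotientAddGroup.mk (ρ 1 x) = _
          rw [map_one]; rfl
        map_mul' := fun g k => AddMonoidHom.ext fun x => by
          obtain ⟨x, rfl⟩ := QuotientAddGroup.mk_surjective x
          show QuotientAddGroup.mk (ρ (g * k) x) = _
          rw [rho_mul]; rfl }
    have hlt : Nat.card (V ⧸ F) < n := by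
      rw [← hn, AddSubgroup.card_eq_card_quotient_mul_card_addSubgroup F]
      haveI : Nontrivial F := (AddSubgroup.nontrivial_iff_ne_bot _).mpr hFne
      exact lt_mul_of_one_lt_right Nat.card_pos (Finite.one_lt_card)
    have h1 := ih _ hlt (V ⧸ F) (Q ⧸ R) qb rfl hqba σ (fun g x => by
      obtain ⟨x, rfl⟩ := QuotientAddGroup.mk_surjective x
      show qb (QuotientAddGroup.mk (ρ g x)) = _
      rw [hqb, hinv, hqb])
    refine hcross fun g v k => ?_
    have h2 : (QuotientAddGroup.mk (ρ g v) : V ⧸ F) = QuotientAddGroup.mk v := h1 g (QuotientAddGroup.mk v)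
    exact ((QuotientAddGroup.eq_iff_sub_mem).mp h2) k

end Cfsg.Agent.Grp.OutOmega
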