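import Cfsg.Agent.Lib.Grp.OutOmega.Aniso
import Cfsg.Agent.Lib.Invol.Critical

/-!
A perfect group of automorphisms of a 2-group whose involutions are central is trivial once it fixes
every involution.
-/

set_option autoImplicit false
set_option linter.unusedSectionVars false

open scoped commutatorElement

namespace Cfsg.Agent.Grp.OutOmega

universe u

/-- A homomorphism with pairwise commuting values is trivial on a perfect group. -/
theorem mul_eq_one_of_perfect {M A : Type*} [Group M] [Group A] (hM : commutator M = ⊤) (δ : M → A)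
    (h : ∀ g k, δ (g * k) = δ g * δ k) (hc : ∀ g k, δ g * δ k = δ k * δ g) (g : M) : δ g = 1 := by
  let f : M →* A := MonoidHom.mk' δ h
  have hle : commutator M ≤ f.ker := by
    rw [commutator_eq_closure, Subgroup.closure_le]
    rintro _ ⟨a, b, rfl⟩
    rw [SetLike.mem_coe, MonoidHom.mem_ker, map_commutatorElement, commutatorElement_eq_one_iff_mul_comm]
    exact hc a b
  exact hle (hM ▸ Subgroup.mem_top g)

variable {C : Type u} [Group C] [Finite C] {M : Type*} [Group M] [Finite M]

/-- Elements with commuting images and fixed displacements are fixed. -/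
theorem fixed_of_displacement (hM : commutator M = ⊤) (f : M →* MulAut C) (x : C)
    (hfix : ∀ g k, f k (x⁻¹ * f g x) = x⁻¹ * f g x)
    (hc : ∀ g k, (x⁻¹ * f g x) * (x⁻¹ * f k x) = (x⁻¹ * f k x) * (x⁻¹ * f g x)) (g : M) :
    f g x = x := by
  have h := mul_eq_one_of_perfect hM (fun g => x⁻¹ * f g x) (fun g k => by
    have h1 := hfix k g
    rw [map_mul, map_inv, inv_mul_eq_iff_eq_mul] at h1
    rw [map_mul, MulAut.mul_apply, h1, mul_assoc]) hc g
  exact (inv_mul_eq_one.mp h).symm

/-- Invariant abelian subgroups are fixed pointwise. -/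
theorem fixed_of_abelian (hC : IsPGroup 2 C) (hM : commutator M = ⊤) (f : M →* MulAut C)
    (hinv2 : ∀ g x, x * x = 1 → f g x = x) (Z : Subgroup C) (hZ : ∀ g, ∀ x ∈ Z, f g x ∈ Z)
    (hab : ∀ x ∈ Z, ∀ y ∈ Z, x * y = y * x) : ∀ g, ∀ x ∈ Z, f g x = x := by
  have key : ∀ k : ℕ, ∀ x ∈ Z, x ^ 2 ^ k = 1 → ∀ g, f g x = x := by
    intro k
    induction k with
    | zero => intro x _ hx g; rw [pow_zero, pow_one] at hx; rw [hx, map_one]
    | succ k ih =>
      intro x hx hxk g
      have hsq : ∀ g, f g (x * x) = x * x := ih (x * x) (mul_mem hx hx) (by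
        rw [← pow_two, ← pow_mul, ← pow_succ']; exact hxk)
      have hd : ∀ g, x⁻¹ * f g x ∈ Z := fun g => mul_mem (inv_mem hx) (hZ g x hx)
      refine fixed_of_displacement hM f x (fun g k => hinv2 k _ ?_) (fun g k => hab _ (hd g) _ (hd k)) g
      have h1 := hsq g
      rw [map_mul] at h1
      calc x⁻¹ * f g x * (x⁻¹ * f g x) = x⁻¹ * (x⁻¹ * f g x) * f g x := by
            rw [hab _ (hd g) _ (hd g), mul_assoc, mul_assoc, ← mul_assoc (f g x),
              hab _ (hZ g x hx) _ (inv_mem hx), mul_assoc x⁻¹ (f g x)]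
        _ = x⁻¹ * x⁻¹ * (f g x * f g x) := by group
        _ = 1 := by rw [h1]; group
  intro g x hx
  obtain ⟨k, hk⟩ := hC x
  exact key k x hx hk g

/-- The theorem on 2-groups with central involutions. -/
theorem trivial_of_fixes_involutions (hC : IsPGroup 2 C)
    (hcen : ∀ x : C, x * x = 1 → x ∈ Subgroup.center C) (hM : commutator M = ⊤) (f : M →* MulAut C)
    (hinv2 : ∀ g x, x * x = 1 → f g x = x) : ∀ g, f g = 1 := by
  classical
  haveI : Fact (Nat.Prime 2) := ⟨Nat.prime_two⟩
  obtain ⟨H, hchar, hcomm, hpow, hcent⟩ := Cfsg.Agent.Invol.exists_critical hC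
  have hHn : H.Normal := inferInstance
  have hHinv : ∀ g, ∀ x ∈ H, f g x ∈ H := fun g x hx =>
    Subgroup.characteristic_iff_map_le.mp hchar (f g) ⟨x, hx, rfl⟩
  set Zs := H ⊓ Subgroup.centralizer (H : Set C) with hZs
  have hZinv : ∀ g, ∀ x ∈ Zs, f g x ∈ Zs := by
    intro g x hx
    refine ⟨hHinv g x hx.1, Subgroup.mem_centralizer_iff.mpr fun y hy => ?_⟩
    have h := Subgroup.mem_centralizer_iff.mp hx.2 _ (hHinv g⁻¹ y hy)
    have h2 := congrArg (f g) h
    rwa [map_mul, map_mul, show f g (f g⁻¹ y) = y by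
      rw [← MulAut.mul_apply, ← map_mul, mul_inv_cancel, map_one]; rfl] at h2
  have hZab : ∀ x ∈ Zs, ∀ y ∈ Zs, x * y = y * x := fun x hx y hy =>
    (Subgroup.mem_centralizer_iff.mp hy.2 x hx.1)
  have hZfix := fixed_of_abelian hC hM f hinv2 Zs hZinv hZab
  have hmemc : ∀ x : H, (x : C) ∈ Zs ↔ x ∈ Subgroup.center H := by
    intro x
    refine ⟨fun hx => Subgroup.mem_center_iff.mpr fun y =>
      Subtype.ext (Subgroup.mem_centralizer_iff.mp hx.2 y y.2),
      fun hx => ⟨x.2, Subgroup.mem_centralizer_iff.mpr fun y hy => ?_⟩⟩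
    exact congrArg Subtype.val (Subgroup.mem_center_iff.mp hx ⟨y, hy⟩)
  have hcomc : ∀ x y : H, ⁅x, y⁆ ∈ Subgroup.center H := fun x y => (hmemc _).mp (by
    have := hcomm (Subgroup.commutator_mem_commutator x.2 (Subgroup.mem_top (y : C)))
    simpa [commutatorElement_def] using this)
  have hsqc : ∀ x : H, x * x ∈ Subgroup.center H := fun x => (hmemc _).mp (by
    have := hpow (x : C) x.2
    rwa [pow_two] at this)
  letI : CommGroup (Subgroup.center H) := { (inferInstance : Group (Subgroup.center H)) with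
    mul_comm := fun a b => Subtype.ext (Subgroup.mem_center_iff.mp b.2 a) }
  letI : CommGroup (H ⧸ Subgroup.center H) :=
    { (inferInstance : Group (H ⧸ Subgroup.center H)) with
      mul_comm := by
        rintro ⟨a⟩ ⟨b⟩
        refine commutatorElement_eq_one_iff_mul_comm.mp ?_
        exact (map_commutatorElement (QuotientGroup.mk' (Subgroup.center H)) a b).symm.trans
          ((QuotientGroup.eq_one_iff _).mpr (hcomc a b)) }
  let S : Subgroup (Subgroup.center H) := (powMonoidHom 2).range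
  let sq : H → Subgroup.center H ⧸ S := fun x => QuotientGroup.mk ⟨x * x, hsqc x⟩
  have hsq : ∀ (x : H) (z : H), z ∈ Subgroup.center H → sq (x * z) = sq x := by
    intro x z hz
    refine QuotientGroup.eq.mpr ⟨(⟨z, hz⟩ : Subgroup.center H)⁻¹, Subtype.ext ?_⟩
    show (z⁻¹) ^ 2 = (x * z * (x * z))⁻¹ * (x * x)
    have hzx := Subgroup.mem_center_iff.mp hz x
    rw [show x * z * (x * z) = x * x * (z * z) by
      rw [mul_assoc, ← mul_assoc z x z, ← hzx, mul_assoc x z z, ← mul_assoc x x]]
    group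
  let qf : H ⧸ Subgroup.center H → Subgroup.center H ⧸ S := fun a =>
    Quotient.liftOn' a sq (fun x y hxy => by
      rw [QuotientGroup.leftRel_apply] at hxy
      rw [← hsq x _ hxy, mul_inv_cancel_left])
  let q : Additive (H ⧸ Subgroup.center H) → Additive (Subgroup.center H ⧸ S) := fun a =>
    Additive.ofMul (qf (Additive.toMul a))
  have hpol : ∀ x y : H, polar q (Additive.ofMul (QuotientGroup.mk x)) (Additive.ofMul (QuotientGroup.mk y)) =
      Additive.ofMul (QuotientGroup.mk (⟨⁅y, x⁆, hcomc y x⟩ : Subgroup.center H) : Subgroup.center H ⧸ S) := by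
    intro x y
    have h1 : (⟨x * y * (x * y), hsqc _⟩ : Subgroup.center H) =
        ⟨x * x, hsqc x⟩ * ⟨y * y, hsqc y⟩ * ⟨⁅y, x⁆, hcomc y x⟩ := by
      refine Subtype.ext ?_
      show x * y * (x * y) = x * x * (y * y) * ⁅y, x⁆
      have hc := Subgroup.mem_center_iff.mp (hcomc y x)
      have hyx : y * x = ⁅y, x⁆ * x * y := by rw [commutatorElement_def]; group
      calc x * y * (x * y) = x * (y * x) * y := by group
        _ = x * (⁅y, x⁆ * x * y) * y := by rw [hyx]
        _ = (x * ⁅y, x⁆) * (x * y * y) := by group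
        _ = ⁅y, x⁆ * (x * x * (y * y)) := by rw [hc x]; group
        _ = x * x * (y * y) * ⁅y, x⁆ := (hc _).symm
    show Additive.ofMul (sq (x * y)) - Additive.ofMul (sq x) - Additive.ofMul (sq y) = _
    simp only [sq, h1, QuotientGroup.mk_mul, ofMul_mul]
    abel
  have hq : IsAniso q := by
    refine ⟨?_, ?_, ?_, ?_⟩
    · rintro ⟨x⟩ ⟨y⟩ ⟨z⟩
      show polar q (Additive.ofMul (QuotientGroup.mk (x * y))) (Additive.ofMul (QuotientGroup.mk z)) =
        polar q (Additive.ofMul (QuotientGroup.mk x)) (Additive.ofMul (QuotientGroup.mk z)) +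
        polar q (Additive.ofMul (QuotientGroup.mk y)) (Additive.ofMul (QuotientGroup.mk z))
      rw [hpol, hpol, hpol, ← ofMul_mul, ← QuotientGroup.mk_mul]
      refine congrArg (fun t => Additive.ofMul (QuotientGroup.mk t : Subgroup.center H ⧸ S)) (Subtype.ext ?_)
      show ⁅z, x * y⁆ = ⁅z, x⁆ * ⁅z, y⁆
      have hc := Subgroup.mem_center_iff.mp (hcomc z y) x
      calc ⁅z, x * y⁆ = ⁅z, x⁆ * (x * ⁅z, y⁆) * x⁻¹ := by simp only [commutatorElement_def]; group
        _ = ⁅z, x⁆ * ⁅z, y⁆ := by rw [hc]; group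
    · rintro ⟨x⟩ hx
      have hx' : (⟨x * x, hsqc x⟩ : Subgroup.center H) ∈ S := (QuotientGroup.eq_one_iff _).mp hx
      obtain ⟨z, hz⟩ := hx'
      have hz2 : (z : H) * (z : H) = x * x := by
        have := congrArg (Subtype.val) hz
        simpa [pow_two] using this
      have hzc := Subgroup.mem_center_iff.mp z.2
      have h1 : x * (z : H)⁻¹ * (x * (z : H)⁻¹) = 1 := by
        have hzi := Subgroup.mem_center_iff.mp (inv_mem z.2) x
        calc x * (z : H)⁻¹ * (x * (z : H)⁻¹) = x * ((z : H)⁻¹ * x) * (z : H)⁻¹ := by group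
          _ = x * (x * (z : H)⁻¹) * (z : H)⁻¹ := by rw [hzi]
          _ = (x * x) * ((z : H) * (z : H))⁻¹ := by group
          _ = 1 := by rw [hz2, mul_inv_cancel]
      have h2 : x * (z : H)⁻¹ ∈ Subgroup.center H := by
        refine Subgroup.mem_center_iff.mpr fun y => Subtype.ext ?_
        have h3 := hcen ((x * (z : H)⁻¹ : H) : C) (congrArg Subtype.val h1)
        exact Subgroup.mem_center_iff.mp h3 y
      have h4 : x ∈ Subgroup.center H := by simpa using mul_mem h2 z.2
      exact (QuotientGroup.eq_one_iff x).mpr h4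
    · rintro ⟨x⟩
      exact (QuotientGroup.eq_one_iff (x * x)).mpr (hsqc x)
    · rintro ⟨x⟩
      refine (QuotientGroup.eq_one_iff (x * x)).mpr ⟨x, ?_⟩
      rw [powMonoidHom_apply, pow_two]
  let res : M → (H →* H) := fun g =>
    MonoidHom.mk' (fun x : H => ⟨f g (x : C), hHinv g x x.2⟩) (fun a b => Subtype.ext (map_mul (f g) (a : C) (b : C)))
  have hres : ∀ g, ∀ x ∈ Subgroup.center H, res g x ∈ Subgroup.center H := fun g x hx =>
    (hmemc _).mp (hZinv g _ ((hmemc x).mpr hx))
  let ρ : M →* AddMonoid.End (Additive (H ⧸ Subgroup.center H)) :=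
    { toFun := fun g => MonoidHom.toAdditive (QuotientGroup.map _ (Subgroup.center H) (res g) (hres g))
      map_one' := by
        refine AddMonoidHom.ext ?_
        rintro ⟨x⟩
        show QuotientGroup.mk (res 1 x) = QuotientGroup.mk x
        exact congrArg _ (Subtype.ext (by show f 1 (x : C) = x; rw [map_one]; rfl))
      map_mul' := fun g k => by
        refine AddMonoidHom.ext ?_
        rintro ⟨x⟩
        show QuotientGroup.mk (res (g * k) x) = QuotientGroup.mk (res g (res k x))
        exact congrArg _ (Subtype.ext (by show f (g * k) (x : C) = f g (f k x); rw [map_mul]; rfl)) }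
  have hinvq : ∀ g v, q (ρ g v) = q v := by
    intro g
    rintro ⟨x⟩
    refine congrArg (fun t => Additive.ofMul (QuotientGroup.mk t : Subgroup.center H ⧸ S)) (Subtype.ext (Subtype.ext ?_))
    show f g (x : C) * f g (x : C) = (x : C) * x
    rw [← map_mul]
    exact hZfix g _ ((hmemc (x * x)).mpr (hsqc x))
  have htriv := aniso_trivial hM _ _ _ q rfl hq ρ hinvq
  have hHfix : ∀ g, ∀ x ∈ H, f g x = x := by
    intro g x hx
    have hd : ∀ g, x⁻¹ * f g x ∈ Zs := fun g => by
      have h1 : (QuotientGroup.mk (res g ⟨x, hx⟩) : H ⧸ Subgroup.center H) = QuotientGroup.mk ⟨x, hx⟩ :=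
        htriv g (Additive.ofMul (QuotientGroup.mk ⟨x, hx⟩))
      exact (hmemc _).mpr (QuotientGroup.eq.mp h1.symm)
    exact fixed_of_displacement hM f x (fun g k => hZfix k _ (hd g)) (fun g k => hZab _ (hd g) _ (hd k)) g
  intro g
  refine MulEquiv.ext fun r => ?_
  have hd : ∀ g, r⁻¹ * f g r ∈ Zs := fun g => by
    have h1 : r⁻¹ * f g r ∈ Subgroup.centralizer (H : Set C) := Subgroup.mem_centralizer_iff.mpr fun y hy => by
      have h3 := hHfix g _ (hHn.conj_mem y hy r)
      rw [map_mul, map_mul, map_inv, hHfix g y hy] at h3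
      calc y * (r⁻¹ * f g r) = r⁻¹ * (r * y * r⁻¹) * f g r := by group
        _ = r⁻¹ * (f g r * y * (f g r)⁻¹) * f g r := by rw [h3]
        _ = r⁻¹ * f g r * y := by group
    exact ⟨hcent h1, h1⟩
  exact fixed_of_displacement hM f r (fun g k => hZfix k _ (hd g)) (fun g k => hZab _ (hd g) _ (hd k)) g

end Cfsg.Agent.Grp.OutOmega
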