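import Cfsg.Agent.Lib.Grp.OutOmega.TransLinear
import Cfsg.Agent.Lib.Fus.SylowCentAut
import Cfsg.Agent.Lib.Fus.MetacyclicTwoAut
import Cfsg.Agent.Lib.Grp.Frattini

/-!
Perfect groups of automorphisms normalizing a Sylow 2-subgroup of a normal subgroup `I` lie in `I` when
the Sylow 2-subgroup is small, or when its involutions commute and are all conjugate in `I`.
-/

set_option autoImplicit false
set_option linter.unusedSectionVars false
set_option linter.style.haveILetI false

open scoped commutatorElement Pointwise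

namespace Cfsg.Agent.Grp.OutOmega

universe u v

/-- A surjective image is solvable if the perfect subgroups die in it. -/
theorem solvable_map_of_perfect {G H : Type*} [Group G] [Finite G] [Group H] (f : G →* H) (N : Subgroup G)
    (h : ∀ R : Subgroup G, R ≤ N → ⁅R, R⁆ = R → R ≤ f.ker) : Group.IsSolvable (N.map f) := by
  classical
  obtain ⟨n, hn⟩ := exists_minimalFor_of_wellFoundedLT (fun _ : ℕ => True)
    (fun n => Nat.card (derivedSeries N n)) ⟨0, trivial⟩
  have hle : derivedSeries N (n + 1) ≤ derivedSeries N n := derivedSeries_antitone N (Nat.le_succ n)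
  have heq : derivedSeries N (n + 1) = derivedSeries N n :=
    Subgroup.eq_of_le_of_card_ge hle (hn.2 trivial
      (Nat.le_of_dvd Nat.card_pos (Subgroup.card_dvd_of_le hle)))
  refine (Group.isSolvable_def _).mpr ⟨n, ?_⟩
  have hs : Function.Surjective (f.subgroupMap N) := f.subgroupMap_surjective N
  rw [← map_derivedSeries_eq hs n, Subgroup.map_eq_bot_iff]
  intro x hx
  have h1 := h ((derivedSeries N n).map N.subtype) (Subgroup.map_subtype_le _)
    (perfect_map _ ((derivedSeries_succ N n).symm.trans heq)) ⟨x, hx, rfl⟩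
  exact MonoidHom.mem_ker.mpr (Subtype.ext h1)

/-- A perfect group mapped into a solvable subgroup dies. -/
theorem perfect_le_ker_of_map_le {G H : Type*} [Group G] [Finite G] [Group H] (f : G →* H)
    {R : Subgroup G} (hR : ⁅R, R⁆ = R) {T : Subgroup H} (hT : Group.IsSolvable T) (hle : R.map f ≤ T) :
    R ≤ f.ker := by
  rw [← Subgroup.map_eq_bot_iff]
  by_contra hne
  haveI := (Subgroup.nontrivial_iff_ne_bot _).mpr hne
  haveI : Group.IsSolvable (R.map f) :=
    Group.isSolvable_of_surjective (f := ((Subgroup.subgroupOfEquivOfLe hle).toMonoidHom :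
      (R.map f).subgroupOf T →* R.map f)) (MulEquiv.surjective _)
  exact (Group.IsSolvable.commutator_lt_top_of_nontrivial (R.map f)).ne
    (commutator_of_perfect (perfect_map f hR))

section flat

variable {W : Type v} [Finite W]

/-- A perfect group permuting at most four points acts trivially. -/
theorem small_trivial {G : Type*} [Group G] {R : Subgroup G} (hR : ⁅R, R⁆ = R) (φ : R →* Equiv.Perm W)
    (hW : Nat.card W ≤ 4) : φ = 1 := by
  classical
  have hd : Nat.card φ.range ∣ 24 := by
    refine (φ.range.card_subgroup_dvd_card).trans ?_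
    rw [Nat.card_perm]
    exact (Nat.factorial_dvd_factorial hW).trans (by norm_num [Nat.factorial])
  obtain ⟨a, b, ha, hb, hab⟩ := Nat.dvd_mul.mp (hd.trans (dvd_of_eq (by norm_num)) : Nat.card φ.range ∣ 2 ^ 3 * 3 ^ 1)
  obtain ⟨i, -, rfl⟩ := (Nat.dvd_prime_pow Nat.prime_two).mp ha
  obtain ⟨j, -, rfl⟩ := (Nat.dvd_prime_pow Nat.prime_three).mp hb
  haveI : Group.IsSolvable φ.range := Cfsg.Agent.S0144.result 2 3 i j Nat.prime_two Nat.prime_three hab.symm
  have h := perfect_to_solvable φ.rangeRestrict (R := (⊤ : Subgroup R)) (commutator_of_perfect hR)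
  exact MonoidHom.ext fun r => congrArg Subtype.val (h (Subgroup.mem_top r))

end flat

section eight

variable {V : Type v} [AddCommGroup V] [Finite V]

theorem card_units_dvd_three (h2 : ∀ v : V, v + v = 0) (hn : Nat.card V = 2 ^ 3) :
    Nat.card (AddMonoid.End V)ˣ ∣ 168 := by
  haveI : Fact (Nat.Prime 2) := ⟨Nat.prime_two⟩
  letI : Module (ZMod 2) V := AddCommGroup.zmodModule (n := 2) fun x => by rw [two_nsmul]; exact h2 x
  haveI : Module.Finite (ZMod 2) V := Module.Finite.of_finite
  have hr : Module.finrank (ZMod 2) V = 3 := by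
    have h := Module.natCard_eq_pow_finrank (K := ZMod 2) (V := V)
    rw [hn, Nat.card_zmod] at h
    exact (Nat.pow_right_injective le_rfl h).symm
  let b := Module.finBasisOfFinrankEq (ZMod 2) V hr
  let lin : AddMonoid.End V → (V →ₗ[ZMod 2] V) := fun e => AddMonoidHom.toZModLinearMap 2 e
  let f : AddMonoid.End V →* Matrix (Fin 3) (Fin 3) (ZMod 2) :=
    { toFun := fun e => LinearMap.toMatrix b b (lin e)
      map_one' := by
        rw [show lin 1 = LinearMap.id from LinearMap.ext fun _ => rfl, LinearMap.toMatrix_id]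
      map_mul' := fun e e' => by
        rw [show lin (e * e') = (lin e).comp (lin e') from LinearMap.ext fun _ => rfl,
          LinearMap.toMatrix_comp b b b] }
  have hf : Function.Injective (Units.map f) := by
    intro e e' k
    have k1 : lin (e : AddMonoid.End V) = lin (e' : AddMonoid.End V) :=
      (LinearMap.toMatrix b b).injective (congrArg Units.val k)
    exact Units.ext (AddMonoidHom.ext fun x => LinearMap.congr_fun k1 x)
  have h := Subgroup.card_dvd_of_injective _ hf
  rw [Matrix.card_GL_field, ZMod.card] at h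
  refine h.trans (dvd_of_eq ?_)
  simp [Fin.prod_univ_succ]

/-- In dimension three a perfect group normalizing a nontrivial group of odd order is trivial. -/
theorem three_case (h2 : ∀ v : V, v + v = 0) (hn : Nat.card V = 2 ^ 3)
    {O R : Subgroup (AddMonoid.End V)ˣ} (hO : O ≠ ⊥) (hOodd : ¬ 2 ∣ Nat.card O) (hR : ⁅R, R⁆ = R)
    (hRO : R ≤ Subgroup.normalizer (O : Set (AddMonoid.End V)ˣ)) : R = ⊥ := by
  classical
  haveI : Nontrivial V := by rw [← Finite.one_lt_card_iff_nontrivial, hn]; norm_num
  have hO21 : Nat.card O ∣ 21 := by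
    have h := O.card_subgroup_dvd_card.trans (card_units_dvd_three h2 hn)
    refine Nat.Coprime.dvd_of_dvd_mul_right (n := 8) ?_ (h.trans (dvd_of_eq (by norm_num)))
    exact ((Nat.prime_two.coprime_iff_not_dvd.mpr hOodd).symm).pow_right 3
  by_cases h7 : 7 ∣ Nat.card O
  · haveI : Fact (Nat.Prime 7) := ⟨by norm_num⟩
    obtain ⟨P⟩ := (inferInstance : Nonempty (Sylow 7 O))
    have hP7 : Nat.card (P : Subgroup O) = 7 := by
      obtain ⟨k, hk⟩ := IsPGroup.iff_card.mp P.2
      have hd : (7 : ℕ) ^ k ∣ 21 := hk ▸ ((P : Subgroup O).card_subgroup_dvd_card.trans hO21)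
      have hne : k ≠ 0 := fun e => P.ne_bot_of_dvd_card h7
        (Subgroup.eq_bot_of_card_eq _ (by rw [hk, e, pow_zero]))
      have hle : k ≤ 1 := by
        by_contra hlt
        have h49 := (pow_dvd_pow 7 (by omega : 2 ≤ k)).trans hd
        norm_num at h49
      rw [hk, show k = 1 by omega, pow_one]
    haveI : Subsingleton (Sylow 7 O) := by
      refine (Nat.card_eq_one_iff_unique.mp ?_).1
      have h1 := card_sylow_modEq_one 7 O
      have h2' : Nat.card (Sylow 7 O) ∣ 3 := by
        have h3 := Sylow.card_dvd_index P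
        have h4 : (P : Subgroup O).index ∣ 3 := by
          have h5 := (P : Subgroup O).card_mul_index
          rw [hP7] at h5
          exact Nat.dvd_of_mul_dvd_mul_left (by norm_num : 0 < 7) (by rw [h5]; exact hO21.trans (dvd_of_eq (by norm_num)))
        exact h3.trans h4
      rcases (Nat.dvd_prime Nat.prime_three).mp h2' with e | e
      · exact e
      · rw [e] at h1; exact absurd h1 (by decide)
    set P' : Subgroup (AddMonoid.End V)ˣ := (P : Subgroup O).map O.subtype with hP'
    have hRP : R ≤ Subgroup.normalizer (P' : Set (AddMonoid.End V)ˣ) := by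
      haveI := P.characteristic_of_subsingleton
      intro r hr
      let e : MulAut O := O.normalizerMonoidHom ⟨r, hRO hr⟩
      have he : ∀ x : O, (e x : (AddMonoid.End V)ˣ) = r * x * r⁻¹ := fun x => rfl
      refine Subgroup.mem_normalizer_iff.mpr fun x => ⟨?_, fun hx => ?_⟩
      · rintro ⟨y, hy, rfl⟩
        exact ⟨e y, Subgroup.characteristic_iff_map_le.mp inferInstance e ⟨y, hy, rfl⟩, he y⟩
      · obtain ⟨y, hy, hyx⟩ := hx
        refine ⟨e.symm y, Subgroup.characteristic_iff_map_le.mp inferInstance e.symm ⟨y, hy, rfl⟩, ?_⟩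
        have h1 := he (e.symm y)
        rw [MulEquiv.apply_symm_apply] at h1
        have h2' : r * ((e.symm y : O) : (AddMonoid.End V)ˣ) * r⁻¹ = r * x * r⁻¹ := h1.symm.trans hyx
        exact mul_left_cancel (mul_right_cancel h2')
    have hc : Nat.card P' = 7 := by rw [hP', Subgroup.card_map_of_injective O.subtype_injective, hP7]
    haveI : IsCyclic P' := isCyclic_of_prime_card hc
    obtain ⟨z, hz⟩ := exists_prime_orderOf_dvd_card' (G := P') 7 (by rw [hc])
    rw [← Subgroup.orderOf_coe] at hz
    have hprim : Cfsg.Agent.Recog.Zsigmondy.Primitive 2 3 7 := by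
      refine ⟨by norm_num, by norm_num, fun i h1 h3 => ?_⟩
      interval_cases i <;> norm_num
    refine perfect_eq_bot ((irred_of_primitive h2 hn hprim hz).mono ?_) hR
      (le_centralizer_of_cyclic hR hRP)
    rintro _ rfl
    exact ⟨_, z.2, rfl⟩
  · have hc : Nat.card O = 3 := by
      rcases (Nat.dvd_mul.mp (hO21.trans (dvd_of_eq (by norm_num)) : Nat.card O ∣ 3 * 7)) with ⟨a, b, ha, hb, hab⟩
      rcases (Nat.dvd_prime Nat.prime_three).mp ha with rfl | rfl <;>
        rcases (Nat.dvd_prime (by norm_num : Nat.Prime 7)).mp hb with rfl | rfl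
      · exact absurd (Subgroup.eq_bot_of_card_eq O (by omega)) hO
      · exact absurd ⟨1, by omega⟩ h7
      · omega
      · exact absurd ⟨3, by omega⟩ h7
    haveI : Fact (Nat.Prime 3) := ⟨Nat.prime_three⟩
    haveI : IsCyclic O := isCyclic_of_prime_card hc
    have hcent := le_centralizer_of_cyclic hR hRO
    obtain ⟨⟨z, hzO⟩, hz⟩ := exists_prime_orderOf_dvd_card' (G := O) 3 (by rw [hc])
    rw [← Subgroup.orderOf_coe] at hz
    let zh : V →+ V := ((z : AddMonoid.End V) - 1 : AddMonoid.End V)
    have hzh : ∀ v, zh v = (z : AddMonoid.End V) v - v := fun v => rfl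
    have hz3 : ∀ v, (z : AddMonoid.End V) ((z : AddMonoid.End V) ((z : AddMonoid.End V) v)) = v := by
      intro v
      have h : z ^ 3 = 1 := by rw [← hz]; exact pow_orderOf_eq_one z
      rw [pow_succ, pow_two] at h
      exact DFunLike.congr_fun (congrArg Units.val h) v
    have hcomm : ∀ r ∈ R, ∀ v, (r : AddMonoid.End V) (zh v) = zh ((r : AddMonoid.End V) v) := by
      intro r hr v
      rw [hzh, hzh, map_sub]
      congr 1
      exact DFunLike.congr_fun (congrArg Units.val (Subgroup.mem_centralizer_iff.mp (hcent hr) z hzO).symm) v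
    set C := zh.ker
    set W := zh.range
    have hCne : C ≠ ⊤ := by
      intro e
      have hz1 : z = 1 := Units.ext (AddMonoidHom.ext fun v => sub_eq_zero.mp
        ((hzh v).symm.trans (e.ge (AddSubgroup.mem_top v) : v ∈ zh.ker)))
      rw [show orderOf z = 1 by rw [hz1, orderOf_one]] at hz
      omega
    have hCW : ∀ w, w ∈ C → w ∈ W → w = 0 := by
      intro w hw hwW
      obtain ⟨u, rfl⟩ := hwW
      have h1 : (z : AddMonoid.End V) (zh u) = zh u := sub_eq_zero.mp ((hzh _).symm.trans hw)
      rw [hzh, map_sub] at h1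
      have h3 := hz3 u
      have e1 : (z : AddMonoid.End V) u = zh u + u := by rw [hzh, sub_add_cancel]
      have e2 : (z : AddMonoid.End V) (zh u) = zh u := sub_eq_zero.mp ((hzh _).symm.trans hw)
      rw [e1, map_add, e2, e1, map_add, map_add, e2, e1] at h3
      have : zh u + (zh u + (zh u + u)) = u := h3
      rw [← add_assoc (zh u), h2, zero_add] at this
      exact add_eq_right.mp this
    have hlt : Nat.card C ≤ 4 ∧ Nat.card W ≤ 4 := by
      have hmul : Nat.card W * Nat.card C = 8 := by
        rw [show Nat.card W = C.index from (AddSubgroup.index_ker zh).symm, AddSubgroup.index_mul_card, hn]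
        norm_num
      have hC8 : Nat.card C ≠ 8 := fun e => hCne (AddSubgroup.eq_top_of_card_eq C (by rw [e, hn]; norm_num))
      have hmod : 3 ∣ 8 - Nat.card C := by
        letI : MulAction (Subgroup.zpowers z) V :=
          { smul := fun g w => ((g : (AddMonoid.End V)ˣ) : AddMonoid.End V) w
            one_smul := fun w => rfl
            mul_smul := fun g k w => rfl }
        have hP : IsPGroup 3 (Subgroup.zpowers z) := IsPGroup.of_card (n := 1) (by rw [Nat.card_zpowers, hz, pow_one])
        have h := hP.card_modEq_card_fixedPoints V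
        rw [hn] at h
        have heq : Nat.card (MulAction.fixedPoints (Subgroup.zpowers z) V) = Nat.card C := by
          refine Nat.card_congr (Equiv.subtypeEquivRight fun w => ⟨fun hw => ?_, fun hw g => ?_⟩)
          · show zh w = 0
            rw [hzh, sub_eq_zero]; exact hw ⟨z, Subgroup.mem_zpowers z⟩
          · have hw' : (z : AddMonoid.End V) w = w := sub_eq_zero.mp ((hzh w).symm.trans hw)
            obtain ⟨i, hi⟩ := (mem_powers_iff_mem_zpowers (x := z)).mpr g.2
            show ((g : (AddMonoid.End V)ˣ) : AddMonoid.End V) w = w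
            rw [← hi]
            clear hi
            induction i with
            | zero => rfl
            | succ i ih =>
              simp only [pow_succ, Units.val_mul]
              show ((z ^ i : (AddMonoid.End V)ˣ) : AddMonoid.End V) ((z : AddMonoid.End V) w) = w
              rw [hw', ih]
        rw [heq] at h
        exact (Nat.modEq_iff_dvd' (by
          have := Nat.le_of_dvd (by norm_num : 0 < 8) ⟨Nat.card W, by rw [mul_comm]; exact hmul.symm⟩
          omega)).mp h.symm
      have hCd : Nat.card C ∣ 8 := ⟨Nat.card W, by rw [mul_comm]; exact hmul.symm⟩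
      have hC1 : Nat.card C ≠ 1 := fun e => by rw [e] at hmod; omega
      have hC8' := Nat.le_of_dvd (by norm_num : 0 < 8) hCd
      constructor <;> interval_cases hcc : Nat.card C <;> omega
    have hWC : ∀ v, ∃ c ∈ C, ∃ w ∈ W, c + w = v := by
      intro v
      let add : C × W → V := fun x => (x.1 : V) + x.2
      have hinj : Function.Injective add := by
        rintro ⟨c, w⟩ ⟨c', w'⟩ h
        have h1 : (c : V) - c' = w' - w := by
          rw [sub_eq_sub_iff_add_eq_add]; exact h.trans (add_comm _ _)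
        have h2' := hCW _ (C.sub_mem c.2 c'.2) (h1 ▸ W.sub_mem w'.2 w.2)
        have h3 : c = c' := Subtype.ext (sub_eq_zero.mp h2')
        subst h3
        exact Prod.ext rfl (Subtype.ext (add_left_cancel h))
      obtain ⟨⟨c, w⟩, h⟩ := (hinj.bijective_of_nat_card_le (by
        rw [Nat.card_prod, mul_comm, show Nat.card W = C.index from (AddSubgroup.index_ker zh).symm,
          AddSubgroup.index_mul_card])).2 v
      exact ⟨c, c.2, w, w.2, h⟩
    have hinv : ∀ U : AddSubgroup V, (U = C ∨ U = W) → ∀ r ∈ R, ∀ x ∈ U, (r : AddMonoid.End V) x ∈ U := by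
      rintro U (rfl | rfl) r hr x hx
      · show zh _ = 0
        rw [← hcomm r hr, show zh x = 0 from hx, map_zero]
      · obtain ⟨y, rfl⟩ := hx
        exact ⟨(r : AddMonoid.End V) y, (hcomm r hr y).symm⟩
    have hfix : ∀ U : AddSubgroup V, (U = C ∨ U = W) → ∀ r ∈ R, ∀ x ∈ U, (r : AddMonoid.End V) x = x := by
      intro U hU r hr x hx
      have hU4 : Nat.card U ≤ 4 := by rcases hU with rfl | rfl <;> [exact hlt.1; exact hlt.2]
      let φ : R →* Equiv.Perm U := MonoidHom.toHomPerm
        { toFun := fun r : R => fun y : U => (⟨((r : (AddMonoid.End V)ˣ) : AddMonoid.End V) y, hinv U hU r r.2 y y.2⟩ : U)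
          map_one' := rfl
          map_mul' := fun a b => rfl }
      exact congrArg Subtype.val (Equiv.ext_iff.mp (DFunLike.congr_fun (small_trivial hR φ hU4) ⟨r, hr⟩) ⟨x, hx⟩)
    refine (Subgroup.eq_bot_iff_forall R).mpr fun r hr => Units.ext (AddMonoidHom.ext fun v => ?_)
    obtain ⟨c, hc', w, hw, rfl⟩ := hWC v
    show (r : AddMonoid.End V) (c + w) = c + w
    have h := (r : AddMonoid.End V).map_add' c w
    exact h.trans (congrArg₂ (· + ·) (hfix C (Or.inl rfl) r hr c hc') (hfix W (Or.inr rfl) r hr w hw))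

end eight

section ambient

variable {H : Type u} [Group H] [Finite H]

/-- Conjugation on a normalized subgroup. -/
theorem normalizer_apply (S : Subgroup H) (g : Subgroup.normalizer (S : Set H)) (x : S) :
    ((S.normalizerMonoidHom g x : S) : H) = g * x * (g : H)⁻¹ := rfl

/-- The action on the Frattini quotient. -/
noncomputable def flatHom (S : Subgroup H) (hS : IsPGroup 2 S) :
    Subgroup.normalizer (S : Set H) →* Monoid.End (S ⧸ frattini S) where
  toFun g := QuotientGroup.map _ _ (S.normalizerMonoidHom g).toMonoidHom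
    (Subgroup.map_le_iff_le_comap.mp (Subgroup.characteristic_iff_map_le.mp inferInstance _))
  map_one' := MonoidHom.ext fun x => by
    obtain ⟨x, rfl⟩ := QuotientGroup.mk_surjective x
    show QuotientGroup.mk (S.normalizerMonoidHom 1 x) = _
    rw [map_one]; rfl
  map_mul' g k := MonoidHom.ext fun x => by
    obtain ⟨x, rfl⟩ := QuotientGroup.mk_surjective x
    show QuotientGroup.mk (S.normalizerMonoidHom (g * k) x) = _
    rw [map_mul]; rfl

theorem flatHom_apply (S : Subgroup H) (hS : IsPGroup 2 S) (g : Subgroup.normalizer (S : Set H)) (x : S) :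
    flatHom S hS g (QuotientGroup.mk x) = QuotientGroup.mk (S.normalizerMonoidHom g x) := rfl

/-- A perfect group trivial on the Frattini quotient centralizes. -/
theorem le_centralizer_of_flat (S : Subgroup H) (hS : IsPGroup 2 S) {R : Subgroup H} (hR : ⁅R, R⁆ = R)
    (hn : R ≤ Subgroup.normalizer (S : Set H))
    (h : ∀ r (hr : r ∈ R) (x : S), flatHom S hS ⟨r, hn hr⟩ (QuotientGroup.mk x) = QuotientGroup.mk x) :
    R ≤ Subgroup.centralizer (S : Set H) := by
  classical
  haveI : Fact (Nat.Prime 2) := ⟨Nat.prime_two⟩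
  let ψ : R →* MulAut S := S.normalizerMonoidHom.comp (Subgroup.inclusion hn)
  have hsol : Group.IsSolvable ψ.range := by
    have hp : IsPGroup 2 ψ.range := by
      rintro ⟨_, r, rfl⟩
      obtain ⟨j, m, hm, hord⟩ := Nat.exists_eq_two_pow_mul_odd (n := orderOf (ψ r)) (orderOf_pos _).ne'
      refine ⟨j, Subtype.ext ?_⟩
      show ψ r ^ 2 ^ j = 1
      by_contra hne
      have hpm : (ψ r ^ 2 ^ j) ^ m = 1 := by rw [← pow_mul, ← hord, pow_orderOf_eq_one]
      have hne1 : orderOf (ψ r ^ 2 ^ j) ≠ 1 := fun e => hne (orderOf_eq_one_iff.mp e)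
      obtain ⟨q, hq, hqd⟩ := Nat.exists_prime_and_dvd hne1
      haveI := Fact.mk hq
      have hq2 : q ≠ 2 := by
        rintro rfl
        exact (Nat.not_even_iff_odd.mpr hm) (even_iff_two_dvd.mpr (hqd.trans (orderOf_dvd_of_pow_eq_one hpm)))
      set i := orderOf (ψ r ^ 2 ^ j) / q
      have h1 := Cfsg.Agent.Fus.MetaTwo.aut_eq_one hq2 hS (α := (ψ r ^ 2 ^ j) ^ i)
        (by rw [← pow_mul, Nat.div_mul_cancel hqd, pow_orderOf_eq_one]) (fun x => by
          have h2 := h _ (R.pow_mem r.2 (2 ^ j * i)) x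
          rw [flatHom_apply, eq_comm, QuotientGroup.eq] at h2
          convert h2 using 3
          rw [← pow_mul, ← map_pow]
          rfl)
      have h3 := orderOf_dvd_of_pow_eq_one h1
      have hpos : 0 < i := Nat.div_pos (Nat.le_of_dvd (orderOf_pos _) hqd) hq.pos
      have h4 := Nat.le_of_dvd hpos h3
      have h5 : i * 2 ≤ i * q := Nat.mul_le_mul_left i hq.two_le
      rw [Nat.div_mul_cancel hqd] at h5
      omega
    haveI := hp.isNilpotent
    infer_instance
  intro r hr
  have hker := perfect_to_solvable ψ.rangeRestrict (R := (⊤ : Subgroup R)) (commutator_of_perfect hR)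
  have h1 : ψ ⟨r, hr⟩ = 1 := congrArg Subtype.val (hker (Subgroup.mem_top (⟨r, hr⟩ : R)))
  have h2' : Subgroup.inclusion hn ⟨r, hr⟩ ∈ S.normalizerMonoidHom.ker := h1
  rw [Subgroup.normalizerMonoidHom_ker] at h2'
  exact Subgroup.mem_subgroupOf.mp h2'

theorem flat_sq (S : Subgroup H) (hS : IsPGroup 2 S) (x : S ⧸ frattini S) : x * x = 1 := by
  haveI : Fact (Nat.Prime 2) := ⟨Nat.prime_two⟩
  obtain ⟨x, rfl⟩ := QuotientGroup.mk_surjective x
  rw [← QuotientGroup.mk_mul, QuotientGroup.eq_one_iff, ← pow_two]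
  exact Cfsg.Agent.Grp.pGroup_pow_mem_frattini hS x

/-- A group of exponent two generated by `k` elements has at most `2 ^ k` elements. -/
theorem card_le_of_gen {Q : Type*} [Group Q] (hsq : ∀ x : Q, x * x = 1) {k : ℕ} (g : Fin k → Q)
    (hgen : Subgroup.closure (Set.range g) = ⊤) : Nat.card Q ≤ 2 ^ k := by
  classical
  letI : CommGroup Q := { (inferInstance : Group Q) with
    mul_comm := fun a b => by
      have ha := inv_eq_of_mul_eq_one_right (hsq a)
      have hb := inv_eq_of_mul_eq_one_right (hsq b)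
      have h := inv_eq_of_mul_eq_one_right (hsq (a * b))
      rw [mul_inv_rev, ha, hb] at h
      exact h.symm }
  let T : Subgroup Q :=
    { carrier := {x | ∃ s : Finset (Fin k), ∏ i ∈ s, g i = x}
      one_mem' := ⟨∅, Finset.prod_empty⟩
      mul_mem' := by
        rintro _ _ ⟨s, rfl⟩ ⟨t, rfl⟩
        refine ⟨(s \ t) ∪ (t \ s), ?_⟩
        rw [Finset.prod_union disjoint_sdiff_sdiff]
        have hs := (Finset.prod_inter_mul_prod_sdiff s t g).symm
        have ht := (Finset.prod_inter_mul_prod_sdiff t s g).symm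
        rw [Finset.inter_comm t s] at ht
        rw [hs, ht, mul_mul_mul_comm, hsq, one_mul]
      inv_mem' := fun {x} hx => by rwa [inv_eq_of_mul_eq_one_right (hsq x)] }
  have hT : T = ⊤ := top_le_iff.mp (hgen ▸ (Subgroup.closure_le T).mpr (by
    rintro _ ⟨i, rfl⟩; exact ⟨{i}, Finset.prod_singleton _ _⟩))
  have hs : Function.Surjective fun s : Finset (Fin k) => ∏ i ∈ s, g i := fun x =>
    (hT.ge (Subgroup.mem_top x) : x ∈ T)
  refine (Nat.card_le_card_of_surjective _ hs).trans ?_
  simp [Nat.card_eq_fintype_card, Fintype.card_finset]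

/-- The case of two generators. -/
theorem centralizes_of_two (S : Subgroup H) (hS : IsPGroup 2 S) {R : Subgroup H} (hR : ⁅R, R⁆ = R)
    (hn : R ≤ Subgroup.normalizer (S : Set H)) (hcard : Nat.card (S ⧸ frattini S) ≤ 4) :
    R ≤ Subgroup.centralizer (S : Set H) := by
  refine le_centralizer_of_flat S hS hR hn fun r hr x => ?_
  let φ : R →* Equiv.Perm (S ⧸ frattini S) := MonoidHom.toHomPerm
    { toFun := fun r : R => (flatHom S hS ⟨r, hn r.2⟩ : S ⧸ frattini S → S ⧸ frattini S)
      map_one' := funext fun q => by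
        show flatHom S hS 1 q = q
        rw [map_one]; rfl
      map_mul' := fun a b => funext fun q => by
        show flatHom S hS (⟨a, hn a.2⟩ * ⟨b, hn b.2⟩) q = _
        rw [map_mul]; rfl }
  exact Equiv.ext_iff.mp (DFunLike.congr_fun (small_trivial hR φ hcard) ⟨r, hr⟩) (QuotientGroup.mk x)

/-- The case of three generators with an odd element acting. -/
theorem centralizes_of_three (I S : Subgroup H) [I.Normal] (hSI : S ≤ I) (hS : IsPGroup 2 S)
    (hidx : ¬ 2 ∣ S.relIndex I) {g : H} (hgI : g ∈ I) (hgn : g ∈ Subgroup.normalizer (S : Set H))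
    (hgo : Odd (orderOf g)) (hgc : g ∉ Subgroup.centralizer (S : Set H)) {R : Subgroup H} (hR : ⁅R, R⁆ = R)
    (hn : R ≤ Subgroup.normalizer (S : Set H)) (hcard : Nat.card (S ⧸ frattini S) ≤ 8) :
    R ≤ Subgroup.centralizer (S : Set H) := by
  classical
  haveI : Fact (Nat.Prime 2) := ⟨Nat.prime_two⟩
  have h2group : IsPGroup 2 (S ⧸ frattini S) := hS.to_quotient _
  obtain ⟨k, hk⟩ := IsPGroup.iff_card.mp h2group
  by_cases hk2 : k ≤ 2
  · exact centralizes_of_two S hS hR hn (hk ▸ Nat.pow_le_pow_right two_pos hk2)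
  have hk3 : k = 3 := by
    have : (2 : ℕ) ^ k ≤ 2 ^ 3 := hk ▸ hcard
    have := (Nat.pow_le_pow_iff_right (le_refl 2)).mp this
    omega
  subst hk3
  letI : CommGroup (S ⧸ frattini S) := { (inferInstance : Group (S ⧸ frattini S)) with
    mul_comm := fun a b => by
      have ha := inv_eq_of_mul_eq_one_right (flat_sq S hS a)
      have hb := inv_eq_of_mul_eq_one_right (flat_sq S hS b)
      have h := inv_eq_of_mul_eq_one_right (flat_sq S hS (a * b))
      rw [mul_inv_rev, ha, hb] at h
      exact h.symm }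
  let V := Additive (S ⧸ frattini S)
  have h2 : ∀ v : V, v + v = 0 := fun v => flat_sq S hS (Additive.toMul v)
  have hV : Nat.card V = 2 ^ 3 := (Nat.card_congr Additive.toMul).trans hk
  let f : Subgroup.normalizer (S : Set H) →* (AddMonoid.End V)ˣ :=
    ({ toFun := fun e => MonoidHom.toAdditive (flatHom S hS e)
       map_one' := by rw [map_one]; rfl
       map_mul' := fun a b => by rw [map_mul]; rfl } :
      Subgroup.normalizer (S : Set H) →* AddMonoid.End V).toHomUnits
  have hf : ∀ (e : Subgroup.normalizer (S : Set H)) (q : S ⧸ frattini S),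
      ((f e : (AddMonoid.End V)ˣ) : AddMonoid.End V) (Additive.ofMul q) = Additive.ofMul (flatHom S hS e q) :=
    fun e q => rfl
  let N := Subgroup.normalizer (S : Set H)
  set NI : Subgroup N := I.subgroupOf N
  have hSN : S ≤ N := Subgroup.le_normalizer
  have hSker : S.subgroupOf N ≤ f.ker := by
    intro s hs
    refine MonoidHom.mem_ker.mpr (Units.ext (AddMonoidHom.ext fun v => ?_))
    obtain ⟨x, hx⟩ := QuotientGroup.mk_surjective (Additive.toMul v)
    obtain ⟨q, rfl⟩ : ∃ q, Additive.ofMul q = v := ⟨Additive.toMul v, rfl⟩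
    refine (hf s q).trans ?_
    show Additive.ofMul (flatHom S hS s q) = Additive.ofMul q
    change QuotientGroup.mk x = q at hx
    rw [← hx, flatHom_apply]
    have h1 : S.normalizerMonoidHom s x = ⟨(s : H), hs⟩ * x * ⟨(s : H), hs⟩⁻¹ := Subtype.ext rfl
    rw [h1, QuotientGroup.mk_mul, QuotientGroup.mk_mul, QuotientGroup.mk_inv,
      mul_comm (QuotientGroup.mk (⟨(s : H), hs⟩ : S)), mul_assoc, mul_inv_cancel, mul_one, hx]
  have hodd : ¬ 2 ∣ Nat.card (NI.map f) := by
    intro hd
    have h1 : Nat.card (NI.map f) ∣ (S.subgroupOf N).relIndex NI := by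
      rw [← Subgroup.relIndex_ker]
      exact Subgroup.relIndex_dvd_of_le_left _ hSker
    have h3 : (S.subgroupOf N).relIndex NI ∣ S.relIndex I := by
      rw [← Subgroup.relIndex_map_map_of_injective _ _ N.subtype_injective, Subgroup.subgroupOf_map_subtype,
        Subgroup.subgroupOf_map_subtype, inf_of_le_left hSN]
      have hle : S ≤ I ⊓ N := le_inf hSI hSN
      exact Dvd.intro _ (Subgroup.relIndex_mul_relIndex S (I ⊓ N) I hle inf_le_left)
    exact hidx ((hd.trans h1).trans h3)
  have hne : NI.map f ≠ ⊥ := by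
    intro e
    rw [Subgroup.map_eq_bot_iff] at e
    refine hgc ?_
    have hgk := e (Subgroup.mem_subgroupOf.mpr hgI : (⟨g, hgn⟩ : N) ∈ NI)
    set α := S.normalizerMonoidHom ⟨g, hgn⟩ with hα
    have hαm : α ^ orderOf g = 1 := by
      rw [hα, ← map_pow, show (⟨g, hgn⟩ : N) ^ orderOf g = 1 from Subtype.ext (pow_orderOf_eq_one g), map_one]
    have hflat : ∀ (i : ℕ) (x : S), x⁻¹ * (α ^ i) x ∈ frattini S := by
      intro i x
      have hik : (⟨g, hgn⟩ : N) ^ i ∈ f.ker := pow_mem hgk i
      have h1 := DFunLike.congr_fun (congrArg Units.val (MonoidHom.mem_ker.mp hik))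
        (Additive.ofMul (QuotientGroup.mk x))
      have h2 : (QuotientGroup.mk x : S ⧸ frattini S) = QuotientGroup.mk (S.normalizerMonoidHom ((⟨g, hgn⟩ : N) ^ i) x) :=
        (congrArg Additive.toMul ((hf _ _).symm.trans h1)).symm
      rw [map_pow, QuotientGroup.eq] at h2
      exact h2
    have hα1 : α = 1 := by
      by_contra hne
      have hne1 : orderOf α ≠ 1 := fun e => hne (orderOf_eq_one_iff.mp e)
      obtain ⟨q, hq, hqd⟩ := Nat.exists_prime_and_dvd hne1
      haveI := Fact.mk hq
      have hq2 : q ≠ 2 := by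
        rintro rfl
        exact (Nat.not_even_iff_odd.mpr hgo) (even_iff_two_dvd.mpr (hqd.trans (orderOf_dvd_of_pow_eq_one hαm)))
      set i := orderOf α / q
      have h1 := Cfsg.Agent.Fus.MetaTwo.aut_eq_one hq2 hS (α := α ^ i)
        (by rw [← pow_mul, Nat.div_mul_cancel hqd, pow_orderOf_eq_one]) (hflat i)
      have h3 := orderOf_dvd_of_pow_eq_one h1
      have hpos : 0 < i := Nat.div_pos (Nat.le_of_dvd (orderOf_pos _) hqd) hq.pos
      have h4 := Nat.le_of_dvd hpos h3
      have h5 : i * 2 ≤ i * q := Nat.mul_le_mul_left i hq.two_le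
      rw [Nat.div_mul_cancel hqd] at h5
      omega
    have hmem : (⟨g, hgn⟩ : N) ∈ S.normalizerMonoidHom.ker := hα1
    rw [Subgroup.normalizerMonoidHom_ker] at hmem
    exact Subgroup.mem_subgroupOf.mp hmem
  haveI : NI.Normal := inferInstance
  have hRb : ⁅(R.subgroupOf N).map f, (R.subgroupOf N).map f⁆ = (R.subgroupOf N).map f := by
    refine perfect_map f (Subgroup.map_injective N.subtype_injective ?_)
    rw [Subgroup.map_commutator, Subgroup.subgroupOf_map_subtype, inf_of_le_left hn, hR]
  have hnorm : (R.subgroupOf N).map f ≤ Subgroup.normalizer ((NI.map f) : Set (AddMonoid.End V)ˣ) :=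
    ((Subgroup.map_mono le_top).trans (le_of_eq (by rw [Subgroup.normalizer_eq_top NI]))).trans
      (Subgroup.le_normalizer_map f)
  have hbot := three_case h2 hV hne hodd hRb hnorm
  refine le_centralizer_of_flat S hS hR hn fun r hr x => ?_
  rw [Subgroup.map_eq_bot_iff] at hbot
  have h1 := DFunLike.congr_fun (congrArg Units.val (MonoidHom.mem_ker.mp
    (hbot (Subgroup.mem_subgroupOf.mpr hr : (⟨r, hn hr⟩ : N) ∈ R.subgroupOf N))))
    (Additive.ofMul (QuotientGroup.mk x))
  exact congrArg Additive.toMul ((hf _ _).symm.trans h1)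

/-- The case of commuting involutions forming one class. -/
theorem le_of_omega (I S : Subgroup H) [I.Normal] (hSI : S ≤ I) (hS : IsPGroup 2 S)
    (hidx : ¬ 2 ∣ S.relIndex I)
    (hcomm : ∀ s ∈ S, ∀ t ∈ S, s * s = 1 → t * t = 1 → s * t = t * s)
    (hconj : ∀ s ∈ S, ∀ t ∈ S, s * s = 1 → t * t = 1 → s ≠ 1 → t ≠ 1 → ∃ g ∈ I, g * s * g⁻¹ = t)
    (hcS : Group.IsSolvable (Subgroup.centralizer (S : Set H))) {R : Subgroup H} (hR : ⁅R, R⁆ = R)
    (hn : R ≤ Subgroup.normalizer (S : Set H)) : R ≤ I := by
  classical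
  haveI : Fact (Nat.Prime 2) := ⟨Nat.prime_two⟩
  let π := QuotientGroup.mk' I
  have hπ : π.ker = I := QuotientGroup.ker_mk' I
  let A : Subgroup H :=
    { carrier := {a | a ∈ S ∧ a * a = 1}
      one_mem' := ⟨one_mem S, one_mul 1⟩
      mul_mem' := fun {a b} ha hb => ⟨mul_mem ha.1 hb.1, by
        rw [mul_assoc, ← mul_assoc b a b, hcomm b hb.1 a ha.1 hb.2 ha.2, mul_assoc a b b, hb.2, mul_one, ha.2]⟩
      inv_mem' := fun {a} ha => ⟨inv_mem ha.1, by rw [← mul_inv_rev, ha.2, inv_one]⟩ }
  have hAmem : ∀ a, a ∈ A ↔ a ∈ S ∧ a * a = 1 := fun a => Iff.rfl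
  have hAS : A ≤ S := fun a ha => ha.1
  have hSA : Subgroup.normalizer (S : Set H) ≤ Subgroup.normalizer (A : Set H) := by
    intro g hg
    refine Subgroup.mem_normalizer_iff.mpr fun a => ?_
    rw [hAmem, hAmem, ← Subgroup.mem_normalizer_iff.mp hg a]
    refine and_congr_right fun _ => ?_
    rw [show g * a * g⁻¹ * (g * a * g⁻¹) = g * (a * a) * g⁻¹ by group, conj_eq_one_iff]
  -- Sylow subgroups
  have hsyl : ∀ T : Subgroup H, IsPGroup 2 T → T ≤ I → ∃ g ∈ I, ∀ x ∈ T, g * x * g⁻¹ ∈ S := by
    intro T hT hTI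
    let SI : Sylow 2 I := ((IsPGroup.comap_subtype hS (K := I)) :
      IsPGroup 2 (S.subgroupOf I)).toSylow hidx
    obtain ⟨T1, hT1⟩ := (IsPGroup.comap_subtype hT (K := I) : IsPGroup 2 (T.subgroupOf I)).exists_le_sylow
    obtain ⟨c, hc⟩ := MulAction.exists_smul_eq I T1 SI
    refine ⟨c, c.2, fun x hx => ?_⟩
    have h1 : MulAut.conj c • (⟨x, hTI hx⟩ : I) ∈ (MulAut.conj c • (T1 : Subgroup I)) :=
      Subgroup.smul_mem_pointwise_smul _ _ _ (hT1 (Subgroup.mem_subgroupOf.mpr hx))
    have h2 : MulAut.conj c • (T1 : Subgroup I) = (SI : Subgroup I) := congrArg Sylow.toSubgroup hc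
    rw [h2] at h1
    exact Subgroup.mem_subgroupOf.mp h1
  -- transitivity
  have htrans : ∀ a ∈ A, ∀ b ∈ A, a ≠ 1 → b ≠ 1 →
      ∃ g ∈ I ⊓ Subgroup.normalizer (A : Set H), g * a * g⁻¹ = b := by
    intro a ha b hb ha1 hb1
    obtain ⟨g, hgI, hg⟩ := hconj a ha.1 b hb.1 ha.2 hb.2 ha1 hb1
    let D : Subgroup H := I ⊓ Subgroup.centralizer {b}
    have hAD : A ≤ D := fun x hx => ⟨hSI hx.1, Subgroup.mem_centralizer_singleton_iff.mpr
      (hcomm b hb.1 x hx.1 hb.2 hx.2).symm⟩
    have hgAD : A.map (MulAut.conj g).toMonoidHom ≤ D := by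
      rintro _ ⟨x, hx, rfl⟩
      refine ⟨Subgroup.Normal.conj_mem inferInstance x (hSI hx.1) g, Subgroup.mem_centralizer_singleton_iff.mpr ?_⟩
      show g * x * g⁻¹ * b = b * (g * x * g⁻¹)
      rw [← hg]
      calc g * x * g⁻¹ * (g * a * g⁻¹) = g * (x * a) * g⁻¹ := by group
        _ = g * (a * x) * g⁻¹ := by rw [hcomm x hx.1 a ha.1 hx.2 ha.2]
        _ = g * a * g⁻¹ * (g * x * g⁻¹) := by group
    have hAp : IsPGroup 2 A := hS.to_le hAS
    obtain ⟨T1, hT1⟩ := (IsPGroup.comap_subtype hAp (K := D) : IsPGroup 2 (A.subgroupOf D)).exists_le_sylow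
    obtain ⟨T2, hT2⟩ := (IsPGroup.comap_subtype (hAp.map _) (K := D) :
      IsPGroup 2 ((A.map (MulAut.conj g).toMonoidHom).subgroupOf D)).exists_le_sylow
    obtain ⟨c, hc⟩ := MulAction.exists_smul_eq D T2 T1
    obtain ⟨h, hhI, hh⟩ := hsyl ((T1 : Subgroup D).map D.subtype) (T1.2.map _)
      ((Subgroup.map_subtype_le _).trans inf_le_left)
    have hAT : A ≤ (T1 : Subgroup D).map D.subtype := fun x hx =>
      ⟨⟨x, hAD hx⟩, hT1 (Subgroup.mem_subgroupOf.mpr hx), rfl⟩
    have hcA : ∀ x ∈ A, (c : H) * (g * x * g⁻¹) * (c : H)⁻¹ ∈ (T1 : Subgroup D).map D.subtype := by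
      intro x hx
      have hm : (g * x * g⁻¹) ∈ A.map (MulAut.conj g).toMonoidHom := ⟨x, hx, rfl⟩
      have h1 : MulAut.conj c • (⟨_, hgAD hm⟩ : D) ∈ MulAut.conj c • (T2 : Subgroup D) :=
        Subgroup.smul_mem_pointwise_smul _ _ _ (hT2 (Subgroup.mem_subgroupOf.mpr hm))
      rw [show MulAut.conj c • (T2 : Subgroup D) = (T1 : Subgroup D) from congrArg Sylow.toSubgroup hc] at h1
      exact ⟨_, h1, rfl⟩
    have key : ∀ k : H, (∀ x ∈ A, k * x * k⁻¹ ∈ S) → k ∈ Subgroup.normalizer (A : Set H) := fun k hk =>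
      Cfsg.Agent.Fus.SylowCent.conjMem fun x hx => ⟨hk x hx, by
        rw [show k * x * k⁻¹ * (k * x * k⁻¹) = k * (x * x) * k⁻¹ by group, hx.2]; group⟩
    have h1 := key h fun x hx => hh x (hAT hx)
    have h2 := key (h * c * g) fun x hx => by
      rw [show h * c * g * x * (h * c * g)⁻¹ = h * ((c : H) * (g * x * g⁻¹) * (c : H)⁻¹) * h⁻¹ by group]
      exact hh _ (hcA x hx)
    refine ⟨c * g, ⟨mul_mem c.2.1 hgI, by
      have := mul_mem (inv_mem h1) h2
      rwa [show h⁻¹ * (h * c * g) = c * g by group] at this⟩, ?_⟩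
    rw [show (c : H) * g * a * ((c : H) * g)⁻¹ = c * (g * a * g⁻¹) * (c : H)⁻¹ by group, hg]
    have hcb := Subgroup.mem_centralizer_singleton_iff.mp c.2.2
    rw [hcb]; group
  -- the linear group on `A`
  letI : CommGroup A := { (inferInstance : Group A) with
    mul_comm := fun a b => Subtype.ext (hcomm a a.2.1 b b.2.1 a.2.2 b.2.2) }
  set NA := Subgroup.normalizer (A : Set H)
  let f : NA →* (AddMonoid.End (Additive A))ˣ :=
    ({ toFun := fun e => MonoidHom.toAdditive (A.normalizerMonoidHom e).toMonoidHom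
       map_one' := by rw [map_one]; rfl
       map_mul' := fun a b => by rw [map_mul]; rfl } : NA →* AddMonoid.End (Additive A)).toHomUnits
  have hRNA : R ≤ NA := hn.trans hSA
  set X := (I.subgroupOf NA).map f
  have hX : (R.subgroupOf NA).map f ≤ X := by
    refine perfect_le_transitive (fun a => congrArg Additive.ofMul (Subtype.ext (Additive.toMul a).2.2))
      X _ (fun a b ha hb => ?_) ?_ (perfect_map f (Subgroup.map_injective NA.subtype_injective (by
        rw [Subgroup.map_commutator, Subgroup.subgroupOf_map_subtype, inf_of_le_left hRNA, hR])))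
    · obtain ⟨g, hg, he⟩ := htrans _ (Additive.toMul a).2 _ (Additive.toMul b).2
        (fun h => ha (congrArg Additive.ofMul (Subtype.ext h : Additive.toMul a = 1)))
        (fun h => hb (congrArg Additive.ofMul (Subtype.ext h : Additive.toMul b = 1)))
      exact ⟨f ⟨g, hg.2⟩, ⟨_, Subgroup.mem_subgroupOf.mpr hg.1, rfl⟩,
        congrArg Additive.ofMul (Subtype.ext he : A.normalizerMonoidHom ⟨g, hg.2⟩ (Additive.toMul a) = Additive.toMul b)⟩
    · haveI : (I.subgroupOf NA).Normal := inferInstance
      exact ((Subgroup.map_mono le_top).trans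
        (le_of_eq (by rw [Subgroup.normalizer_eq_top (I.subgroupOf NA)]))).trans (Subgroup.le_normalizer_map f)
  -- the centralizer of `A`
  set B := Subgroup.centralizer (A : Set H)
  have hRB : R.map π ≤ B.map π := by
    rintro _ ⟨r, hr, rfl⟩
    obtain ⟨⟨k, hk⟩, hkI, hkr⟩ := hX ⟨⟨r, hRNA hr⟩, Subgroup.mem_subgroupOf.mpr hr, rfl⟩
    refine ⟨k⁻¹ * r, Subgroup.mem_centralizer_iff.mpr fun a ha => ?_, ?_⟩
    · have hkr' : f (⟨k, hk⟩⁻¹ * ⟨r, hRNA hr⟩) = 1 := by rw [map_mul, map_inv, hkr, inv_mul_cancel]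
      have h2 : k⁻¹ * r * a * (k⁻¹ * r)⁻¹ = a := congrArg Subtype.val (congrArg Additive.toMul
        (DFunLike.congr_fun (congrArg Units.val hkr') (Additive.ofMul (⟨a, ha⟩ : A))))
      exact (mul_inv_eq_iff_eq_mul.mp h2).symm
    · rw [map_mul, map_inv, show π k = 1 from (QuotientGroup.eq_one_iff k).mpr (Subgroup.mem_subgroupOf.mp hkI),
        inv_one, one_mul]
  have hBsol : Group.IsSolvable (B.map π) := by
    set C := S ⊓ B
    set N2 := B ⊓ Subgroup.normalizer (C : Set H)
    -- reduction to `N2` by the Frattini argument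
    have hSB : S ≤ Subgroup.normalizer (B : Set H) := by
      refine (Subgroup.le_normalizer.trans hSA).trans fun g hg => Cfsg.Agent.Fus.SylowCent.conjMem fun x hx => ?_
      refine Subgroup.mem_centralizer_iff.mpr fun a ha => ?_
      have h1 := Subgroup.mem_centralizer_iff.mp hx _ ((Subgroup.mem_normalizer_iff''.mp hg a).mp ha)
      calc a * (g * x * g⁻¹) = g * ((g⁻¹ * a * g) * x) * g⁻¹ := by group
        _ = g * (x * (g⁻¹ * a * g)) * g⁻¹ := by rw [h1]
        _ = g * x * g⁻¹ * a := by group
    have hfrat : ∀ K : Subgroup H, S ≤ Subgroup.normalizer (K : Set H) →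
        ∀ b ∈ K, ∃ l ∈ K ⊓ Subgroup.normalizer ((S ⊓ K : Subgroup H) : Set H), π b = π l := by
      intro K hSK b hb
      let KI : Subgroup K := I.subgroupOf K
      have hodd : ¬ 2 ∣ (S ⊓ K).relIndex (I ⊓ K) := by
        intro hd
        refine hidx (hd.trans ?_)
        have hle : S ⊔ (I ⊓ K) ≤ I := sup_le hSI inf_le_left
        have hN : S ≤ Subgroup.normalizer ((I ⊓ K : Subgroup H) : Set H) := fun s hs =>
          Cfsg.Agent.Fus.SylowCent.conjMem fun x hx => ⟨Subgroup.Normal.conj_mem inferInstance x hx.1 s,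
            (Subgroup.mem_normalizer_iff.mp (hSK hs) x).mp hx.2⟩
        have h1 : (S ⊓ K).relIndex (I ⊓ K) = S.relIndex (S ⊔ (I ⊓ K)) := by
          have hcap : S ⊓ (I ⊓ K) = S ⊓ K := by rw [← inf_assoc, inf_of_le_left hSI]
          have e1 := Subgroup.relIndex_mul_relIndex (S ⊓ K) S (S ⊔ (I ⊓ K)) inf_le_left le_sup_left
          have e2 := Subgroup.relIndex_mul_relIndex (S ⊓ K) (I ⊓ K) (S ⊔ (I ⊓ K))
            (hcap.ge.trans inf_le_right) le_sup_right
          haveI := Subgroup.normal_subgroupOf_of_le_normalizer hN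
          have e3 : (I ⊓ K).relIndex (S ⊔ (I ⊓ K)) = (S ⊓ K).relIndex S := by
            haveI := Subgroup.normal_subgroupOf_sup_of_le_normalizer hN
            rw [← hcap, Subgroup.inf_relIndex_left]
            exact Nat.card_congr (QuotientGroup.quotientInfEquivProdNormalizerQuotient S (I ⊓ K) hN).toEquiv.symm
          rw [e3, mul_comm ((S ⊓ K).relIndex (I ⊓ K))] at e2
          refine (Nat.eq_of_mul_eq_mul_left (Nat.pos_of_ne_zero ?_) (e1.trans e2.symm)).symm
          exact Subgroup.FiniteIndex.index_ne_zero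
        rw [h1]
        exact Dvd.intro _ (Subgroup.relIndex_mul_relIndex S _ I le_sup_left hle)
      have hp : IsPGroup 2 (((S ⊓ K).subgroupOf K).subgroupOf KI) :=
        IsPGroup.comap_subtype (IsPGroup.comap_subtype (hS.to_le inf_le_left))
      have hKI : KI.map K.subtype = I ⊓ K := Subgroup.subgroupOf_map_subtype I K
      have hle2 : (S ⊓ K).subgroupOf K ≤ KI := Subgroup.comap_mono (inf_le_left.trans hSI)
      let P : Sylow 2 KI := hp.toSylow (by
        intro hd
        refine hodd ?_
        show 2 ∣ (S ⊓ K).relIndex (I ⊓ K)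
        rw [← hKI, show S ⊓ K = ((S ⊓ K).subgroupOf K).map K.subtype by
          rw [Subgroup.subgroupOf_map_subtype, inf_of_le_left inf_le_right],
          Subgroup.relIndex_map_map_of_injective _ _ K.subtype_injective]
        exact hd)
      obtain ⟨l, hl, i, hi, hli⟩ := Subgroup.mem_sup_of_normal_right.mp
        ((Sylow.normalizer_sup_eq_top P).ge (Subgroup.mem_top (⟨b, hb⟩ : K)))
      have hPm : ((P : Subgroup KI).map KI.subtype).map K.subtype = S ⊓ K := by
        show ((((S ⊓ K).subgroupOf K).subgroupOf KI).map KI.subtype).map K.subtype = S ⊓ K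
        rw [Subgroup.subgroupOf_map_subtype, inf_of_le_left hle2, Subgroup.subgroupOf_map_subtype,
          inf_of_le_left inf_le_right]
      refine ⟨l, ⟨l.2, ?_⟩, ?_⟩
      · rw [← hPm]
        exact Subgroup.le_normalizer_map K.subtype ⟨l, hl, rfl⟩
      · rw [← show (l : H) * (i : H) = b from congrArg Subtype.val hli, map_mul,
          show π (i : H) = 1 from (QuotientGroup.eq_one_iff _).mpr (Subgroup.mem_subgroupOf.mp hi), mul_one]
    have hCp : IsPGroup 2 C := hS.to_le inf_le_left
    set D := Subgroup.centralizer (C : Set H) ⊓ B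
    -- the centralizer of `C`
    have hD : Group.IsSolvable (D.map π) := by
      have hSD : S ≤ Subgroup.normalizer (D : Set H) := by
        intro s hs
        refine Cfsg.Agent.Fus.SylowCent.conjMem fun x hx => ⟨Subgroup.mem_centralizer_iff.mpr fun c hc => ?_,
          (Subgroup.mem_normalizer_iff.mp (hSB hs) x).mp hx.2⟩
        have hc' : s⁻¹ * c * s ∈ C := ⟨S.mul_mem (S.mul_mem (S.inv_mem hs) hc.1) hs,
          (Subgroup.mem_normalizer_iff''.mp (hSB hs) c).mp hc.2⟩
        have h1 := Subgroup.mem_centralizer_iff.mp hx.1 _ hc'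
        calc c * (s * x * s⁻¹) = s * ((s⁻¹ * c * s) * x) * s⁻¹ := by group
          _ = s * (x * (s⁻¹ * c * s)) * s⁻¹ := by rw [h1]
          _ = s * x * s⁻¹ * c := by group
      -- `D S` and the normalizer of `S` in it
      set E := D ⊔ S
      have hkey : ∀ d ∈ D, ∃ d' ∈ D ⊓ Subgroup.normalizer (S : Set H), π d = π d' := by
        intro d hd
        have hSE : S ≤ Subgroup.normalizer (E : Set H) := le_sup_right.trans Subgroup.le_normalizer
        obtain ⟨l, hl, he⟩ := hfrat E hSE d (Subgroup.mem_sup_left hd)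
        rw [inf_of_le_left (le_sup_right : S ≤ E)] at hl
        have hlE : l ∈ ((D ⊔ S : Subgroup H) : Set H) := hl.1
        rw [sup_comm, Subgroup.coe_mul_of_left_le_normalizer_right S D hSD] at hlE
        obtain ⟨s, hs, d', hd', rfl⟩ := hlE
        refine ⟨d', ⟨hd', ?_⟩, ?_⟩
        · have := mul_mem (inv_mem (Subgroup.le_normalizer hs : s ∈ Subgroup.normalizer (S : Set H))) hl.2
          rwa [inv_mul_cancel_left] at this
        · rw [he, map_mul, show π s = 1 from (QuotientGroup.eq_one_iff s).mpr (hSI hs), one_mul]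
      have hmap : D.map π = (D ⊓ Subgroup.normalizer (S : Set H)).map π := by
        refine le_antisymm ?_ (Subgroup.map_mono inf_le_left)
        rintro _ ⟨d, hd, rfl⟩
        obtain ⟨d', hd', e⟩ := hkey d hd
        exact ⟨d', hd', e.symm⟩
      rw [hmap]
      refine solvable_map_of_perfect π _ fun R2 hR2 hp2 => ?_
      have hd : ∀ d ∈ R2, ∀ s ∈ S, s⁻¹ * (d * s * d⁻¹) ∈ C := by
        intro d hd s hs
        have h1 := hR2 hd
        refine ⟨S.mul_mem (S.inv_mem hs) ((Subgroup.mem_normalizer_iff.mp h1.2 s).mp hs), ?_⟩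
        have h2 : s⁻¹ * d * s * d⁻¹ ∈ D :=
          mul_mem ((Subgroup.mem_normalizer_iff''.mp (hSD hs) d).mp h1.1) (inv_mem h1.1)
        simpa [mul_assoc] using h2.2
      have hcS2 : R2 ≤ Subgroup.centralizer (S : Set H) := by
        intro d hdd
        refine Subgroup.mem_centralizer_iff.mpr fun s hs => ?_
        have h := mul_eq_one_of_perfect (commutator_of_perfect hp2)
          (fun r : R2 => s⁻¹ * ((r : H) * s * (r : H)⁻¹)) (fun a b => by
            have hb := hd b b.2 s hs
            have hfix : (a : H) * (s⁻¹ * ((b : H) * s * (b : H)⁻¹)) * (a : H)⁻¹ = s⁻¹ * ((b : H) * s * (b : H)⁻¹) := by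
              rw [← Subgroup.mem_centralizer_iff.mp (hR2 a.2).1.1 _ hb, mul_inv_cancel_right]
            calc s⁻¹ * ((a : H) * (b : H) * s * ((a : H) * (b : H))⁻¹)
                = (s⁻¹ * ((a : H) * s * (a : H)⁻¹)) *
                  ((a : H) * (s⁻¹ * ((b : H) * s * (b : H)⁻¹)) * (a : H)⁻¹) := by group
              _ = _ := by rw [hfix])
          (fun a b => by
            have ha := hd a a.2 s hs
            have hb := hd b b.2 s hs
            have h2 : s⁻¹ * ((b : H) * s * (b : H)⁻¹) ∈ D := by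
              have hb1 := hR2 b.2
              have := mul_mem ((Subgroup.mem_normalizer_iff''.mp (hSD hs) _).mp hb1.1) (inv_mem hb1.1)
              simpa [mul_assoc] using this
            exact (Subgroup.mem_centralizer_iff.mp h2.1 _ ha)) ⟨d, hdd⟩
        have h' : d * s * d⁻¹ = s := (inv_mul_eq_one.mp h).symm
        exact (mul_inv_eq_iff_eq_mul.mp h').symm
      haveI := hcS
      refine perfect_le_ker_of_map_le π hp2 (T := (Subgroup.centralizer (S : Set H)).map π) ?_
        (Subgroup.map_mono hcS2)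
      exact Group.isSolvable_of_surjective (f := π.subgroupMap _) (π.subgroupMap_surjective _)
    have hmap : B.map π = N2.map π := by
      refine le_antisymm ?_ (Subgroup.map_mono inf_le_left)
      rintro _ ⟨b, hb, rfl⟩
      obtain ⟨l, hl, e⟩ := hfrat B hSB b hb
      exact ⟨l, hl, e.symm⟩
    rw [hmap]
    refine solvable_map_of_perfect π _ fun R2 hR2 hp2 => ?_
    have hRC : R2 ≤ Subgroup.normalizer (C : Set H) := hR2.trans inf_le_right
    have htriv := trivial_of_fixes_involutions (M := R2) hCp (fun x hx => by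
      refine Subgroup.mem_center_iff.mpr fun y => Subtype.ext ?_
      exact (Subgroup.mem_centralizer_iff.mp y.2.2 (x : H) ⟨x.2.1, congrArg Subtype.val hx⟩).symm)
      (commutator_of_perfect hp2) (C.normalizerMonoidHom.comp (Subgroup.inclusion hRC)) (fun r x hx => by
        refine Subtype.ext ?_
        show (r : H) * (x : H) * (r : H)⁻¹ = x
        rw [← Subgroup.mem_centralizer_iff.mp (hR2 r.2).1 (x : H) ⟨x.2.1, congrArg Subtype.val hx⟩, mul_inv_cancel_right])
    have hR2D : R2 ≤ D := fun r hr => by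
      have hker : Subgroup.inclusion hRC ⟨r, hr⟩ ∈ C.normalizerMonoidHom.ker := htriv ⟨r, hr⟩
      rw [Subgroup.normalizerMonoidHom_ker] at hker
      exact ⟨Subgroup.mem_subgroupOf.mp hker, (hR2 hr).1⟩
    exact perfect_le_ker_of_map_le π hp2 hD (Subgroup.map_mono hR2D)
  exact (perfect_le_ker_of_map_le π hR hBsol hRB).trans hπ.le

end ambient

end Cfsg.Agent.Grp.OutOmega
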