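import Cfsg.Agent.Lib.Grp.OutOmega.CentralOmega
import Cfsg.Agent.Lib.Recog.Zsigmondy
import Cfsg.Agent.S0144

/-!
A perfect group normalizing a group transitive on the non-zero vectors of a finite vector space over
the field with two elements lies in that group.
-/

set_option autoImplicit false
set_option linter.unusedSectionVars false

namespace Cfsg.Agent.Grp.OutOmega

universe u v

/-- A finite group is solvable if it has no nontrivial perfect subgroup. -/
theorem solvable_of_no_perfect {G : Type*} [Group G] [Finite G]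
    (h : ∀ R : Subgroup G, ⁅R, R⁆ = R → R = ⊥) : Group.IsSolvable G := by
  classical
  obtain ⟨n, hn⟩ := exists_minimalFor_of_wellFoundedLT (fun _ : ℕ => True)
    (fun n => Nat.card (derivedSeries G n)) ⟨0, trivial⟩
  have hle : derivedSeries G (n + 1) ≤ derivedSeries G n := derivedSeries_antitone G (Nat.le_succ n)
  have heq : derivedSeries G (n + 1) = derivedSeries G n :=
    Subgroup.eq_of_le_of_card_ge hle (hn.2 trivial
      (Nat.le_of_dvd Nat.card_pos (Subgroup.card_dvd_of_le hle)))
  exact (Group.isSolvable_def G).mpr ⟨n, h _ ((derivedSeries_succ G n).symm.trans heq)⟩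

/-- Perfect subgroups map to perfect subgroups. -/
theorem perfect_map {G H : Type*} [Group G] [Group H] (f : G →* H) {R : Subgroup G} (hR : ⁅R, R⁆ = R) :
    ⁅R.map f, R.map f⁆ = R.map f := by rw [← Subgroup.map_commutator, hR]

/-- A perfect subgroup is perfect as a group. -/
theorem commutator_of_perfect {G : Type*} [Group G] {R : Subgroup G} (hR : ⁅R, R⁆ = R) :
    commutator R = ⊤ := by
  apply Subgroup.map_injective R.subtype_injective
  rw [commutator_def, Subgroup.map_commutator, ← MonoidHom.range_eq_map, Subgroup.range_subtype, hR]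

/-- A homomorphism from a perfect group to a solvable group is trivial. -/
theorem perfect_to_solvable {G H : Type*} [Group G] [Group H] [hs : Group.IsSolvable H] (f : G →* H)
    {R : Subgroup G} (hR : ⁅R, R⁆ = R) : R ≤ f.ker := by
  intro x hx
  have hsol : Group.IsSolvable (R.map f) := inferInstance
  have hbot : R.map f = ⊥ := by
    by_contra hne
    haveI := (Subgroup.nontrivial_iff_ne_bot _).mpr hne
    exact (Group.IsSolvable.commutator_lt_top_of_nontrivial (R.map f)).ne
      (commutator_of_perfect (perfect_map f hR))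
  exact (Subgroup.map_eq_bot_iff R).mp hbot hx

variable {V : Type v} [AddCommGroup V] [Finite V]

instance : Finite (AddMonoid.End V)ˣ := by
  haveI : Finite (AddMonoid.End V) := Finite.of_injective _ DFunLike.coe_injective
  exact Finite.of_injective _ Units.val_injective

/-- The only invariant subgroups are the trivial ones. -/
def Irred (S : Set (AddMonoid.End V)) : Prop :=
  ∀ W : AddSubgroup V, (∀ f ∈ S, ∀ w ∈ W, f w ∈ W) → W = ⊥ ∨ W = ⊤

theorem Irred.mono {S T : Set (AddMonoid.End V)} (h : Irred S) (hST : S ⊆ T) : Irred T :=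
  fun W hW => h W fun f hf => hW f (hST hf)

/-- Groups commuting with an irreducible set are cyclic. -/
theorem cyclic_of_centralizes [Nontrivial V] {S : Set (AddMonoid.End V)} (hS : Irred S)
    (K : Subgroup (AddMonoid.End V)ˣ) (hK : ∀ k ∈ K, ∀ f ∈ S, f * (k : AddMonoid.End V) = k * f) :
    IsCyclic K := by
  haveI : Finite (AddMonoid.End V) := Finite.of_injective _ DFunLike.coe_injective
  let E : Subring (AddMonoid.End V) := Subring.centralizer S
  have hinj : ∀ e : E, e ≠ 0 → Function.Injective (e : AddMonoid.End V) := by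
    intro e he
    let eh : V →+ V := (e : AddMonoid.End V)
    rcases hS eh.ker (fun f hf w hw => by
      have hw' : (e : AddMonoid.End V) w = 0 := hw
      show (e : AddMonoid.End V) (f w) = 0
      have h1 : f ((e : AddMonoid.End V) w) = (e : AddMonoid.End V) (f w) :=
        DFunLike.congr_fun (Subring.mem_centralizer_iff.mp e.2 f hf) w
      rw [← h1, hw', map_zero]) with h | h
    · exact (AddMonoidHom.ker_eq_bot_iff eh).mp h
    · refine absurd (Subtype.ext (AddMonoidHom.ext fun u => ?_)) he
      exact (h.ge (AddSubgroup.mem_top u) : u ∈ eh.ker)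
  haveI : NoZeroDivisors E := ⟨fun {a b} h => by
    by_contra hab
    push Not at hab
    refine hab.2 (Subtype.ext (AddMonoidHom.ext fun u => hinj a hab.1 ?_))
    have := congrArg (fun e : E => (e : AddMonoid.End V) u) h
    exact this.trans (map_zero (a : AddMonoid.End V)).symm⟩
  haveI : Nontrivial E := by
    obtain ⟨v, hv⟩ := exists_ne (0 : V)
    exact ⟨⟨1, 0, fun h => hv (congrArg (fun e : E => (e : AddMonoid.End V) v) h)⟩⟩
  haveI : IsDomain E := NoZeroDivisors.to_isDomain _
  letI : Field E := (Finite.isDomain_to_isField E).toField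
  refine isCyclic_of_injective_ringHom
    (({ toFun := fun k => ⟨((k : (AddMonoid.End V)ˣ) : AddMonoid.End V), Subring.mem_centralizer_iff.mpr (hK k k.2)⟩
        map_one' := rfl
        map_mul' := fun a b => rfl } : K →* E))
    (fun a b h => Subtype.ext (Units.ext (congrArg Subtype.val h)))

/-- A perfect group normalizing a subgroup and centralizing it is trivial when that is irreducible. -/
theorem perfect_eq_bot [Nontrivial V] {P R : Subgroup (AddMonoid.End V)ˣ}
    (hP : Irred (Units.val '' (P : Set (AddMonoid.End V)ˣ))) (hR : ⁅R, R⁆ = R)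
    (hc : R ≤ Subgroup.centralizer (P : Set (AddMonoid.End V)ˣ)) : R = ⊥ := by
  haveI := cyclic_of_centralizes hP R (by
    rintro k hk _ ⟨f, hf, rfl⟩
    exact congrArg Units.val (Subgroup.mem_centralizer_iff.mp (hc hk) f hf))
  letI := IsCyclic.commGroup (α := R)
  rw [← hR]
  exact Subgroup.commutator_eq_bot_iff_le_centralizer.mpr fun x hx =>
    Subgroup.mem_centralizer_iff.mpr fun y hy => congrArg Subtype.val (mul_comm (⟨y, hy⟩ : R) ⟨x, hx⟩)

/-- A perfect group normalizing a cyclic group centralizes it. -/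
theorem le_centralizer_of_cyclic {G : Type*} [Group G] [Finite G] {P R : Subgroup G} [IsCyclic P]
    (hR : ⁅R, R⁆ = R) (hn : R ≤ Subgroup.normalizer (P : Set G)) :
    R ≤ Subgroup.centralizer (P : Set G) := by
  intro r hr
  have h := mul_eq_one_of_perfect (commutator_of_perfect hR)
    (fun x : R => P.normalizerMonoidHom ⟨x, hn x.2⟩)
    (fun a b => map_mul P.normalizerMonoidHom ⟨a, hn a.2⟩ ⟨b, hn b.2⟩)
    (fun a b => by
      obtain ⟨x, hx⟩ := IsCyclic.exists_generator (α := P)
      refine MulEquiv.ext fun y => ?_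
      obtain ⟨i, rfl⟩ := hx y
      obtain ⟨k, hk⟩ := hx (P.normalizerMonoidHom ⟨a, hn a.2⟩ x)
      obtain ⟨l, hl⟩ := hx (P.normalizerMonoidHom ⟨b, hn b.2⟩ x)
      simp only at hk hl
      show (P.normalizerMonoidHom ⟨a, hn a.2⟩) ((P.normalizerMonoidHom ⟨b, hn b.2⟩) (x ^ i)) =
        (P.normalizerMonoidHom ⟨b, hn b.2⟩) ((P.normalizerMonoidHom ⟨a, hn a.2⟩) (x ^ i))
      rw [map_zpow, map_zpow, map_zpow, map_zpow, ← hk, ← hl, map_zpow, map_zpow, ← hk, ← hl]
      simp only [← zpow_mul]
      congr 1
      ring) ⟨r, hr⟩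
  have hmem : (⟨r, hn hr⟩ : Subgroup.normalizer (P : Set G)) ∈ P.normalizerMonoidHom.ker := h
  rw [Subgroup.normalizerMonoidHom_ker] at hmem
  exact Subgroup.mem_subgroupOf.mp hmem

theorem card_eq_two_pow (h2 : ∀ v : V, v + v = 0) (W : AddSubgroup V) : ∃ a, Nat.card W = 2 ^ a := by
  haveI : Fact (Nat.Prime 2) := ⟨Nat.prime_two⟩
  have h : IsPGroup 2 (Multiplicative W) := fun x => ⟨1, by
    rw [pow_one, pow_two]; exact congrArg Multiplicative.ofAdd (Subtype.ext (h2 (x.toAdd : V)))⟩
  obtain ⟨a, ha⟩ := IsPGroup.iff_card.mp h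
  exact ⟨a, ha⟩

theorem card_le_pow {n : ℕ} (hn : Nat.card V = 2 ^ n) {W : AddSubgroup V} {a : ℕ}
    (ha : Nat.card W = 2 ^ a) : a ≤ n ∧ (a = n → W = ⊤) ∧ (a = 0 → W = ⊥) := by
  refine ⟨(Nat.pow_le_pow_iff_right (le_refl 2)).mp
    (ha ▸ hn ▸ Nat.le_of_dvd Nat.card_pos W.card_addSubgroup_dvd_card), fun h => ?_, fun h => ?_⟩
  · exact AddSubgroup.eq_top_of_card_eq W (by rw [ha, hn, h])
  · exact AddSubgroup.eq_bot_of_card_eq W (by rw [ha, h, pow_zero])

/-- An element of primitive prime order is irreducible. -/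
theorem irred_of_primitive (h2 : ∀ v : V, v + v = 0) {n r : ℕ} (hn : Nat.card V = 2 ^ n)
    (hr : Cfsg.Agent.Recog.Zsigmondy.Primitive 2 n r) {z : (AddMonoid.End V)ˣ} (hz : orderOf z = r) :
    Irred ({(z : AddMonoid.End V)} : Set (AddMonoid.End V)) := by
  haveI := Fact.mk hr.1
  have hcong : ∀ W : AddSubgroup V, (∀ w ∈ W, (z : AddMonoid.End V) w ∈ W) → ∀ a c : ℕ,
      Nat.card W = 2 ^ a → Nat.card {w : W // (z : AddMonoid.End V) w = w} = 2 ^ c →
      c ≤ a → a ≤ n → c = a ∨ (c = 0 ∧ a = n) := by
    intro W hW a c ha hc hca han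
    have hP : IsPGroup r (Subgroup.zpowers z) := IsPGroup.of_card (n := 1) (by rw [Nat.card_zpowers, hz, pow_one])
    have hWz : ∀ g ∈ Subgroup.zpowers z, ∀ w ∈ W, (g : AddMonoid.End V) w ∈ W := by
      intro g hg w hw
      obtain ⟨i, rfl⟩ := (mem_powers_iff_mem_zpowers (x := z)).mpr hg
      clear hg
      induction i generalizing w with
      | zero => simpa using hw
      | succ i ih =>
        simp only [pow_succ, Units.val_mul]
        exact ih _ (hW w hw)
    letI : MulAction (Subgroup.zpowers z) W :=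
      { smul := fun g w => ⟨((g : (AddMonoid.End V)ˣ) : AddMonoid.End V) (w : V), hWz g g.2 w w.2⟩
        one_smul := fun w => Subtype.ext rfl
        mul_smul := fun g k w => Subtype.ext rfl }
    have h := hP.card_modEq_card_fixedPoints W
    have heq : Nat.card (MulAction.fixedPoints (Subgroup.zpowers z) W) =
        Nat.card {w : W // (z : AddMonoid.End V) w = w} := by
      refine Nat.card_congr (Equiv.subtypeEquivRight fun w => ⟨fun hw => ?_, fun hw g => ?_⟩)
      · exact congrArg Subtype.val (hw ⟨z, Subgroup.mem_zpowers z⟩)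
      · obtain ⟨i, hi⟩ := (mem_powers_iff_mem_zpowers (x := z)).mpr g.2
        refine Subtype.ext ?_
        show ((g : (AddMonoid.End V)ˣ) : AddMonoid.End V) (w : V) = w
        rw [← hi]
        clear hi
        induction i with
        | zero => rfl
        | succ i ih =>
          simp only [pow_succ, Units.val_mul]
          show ((z ^ i : (AddMonoid.End V)ˣ) : AddMonoid.End V) ((z : AddMonoid.End V) w) = w
          rw [hw, ih]
    rw [heq, ha, hc] at h
    rcases eq_or_lt_of_le hca with e | hlt
    · exact Or.inl e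
    right
    have h1 : r ∣ 2 ^ c * (2 ^ (a - c) - 1) := by
      rw [Nat.mul_sub, ← pow_add, Nat.add_sub_cancel' hca, mul_one]
      exact (Nat.modEq_iff_dvd' (Nat.pow_le_pow_right two_pos hca)).mp h.symm
    have hr2 : r ≠ 2 := by
      intro e
      have := hr.2.1
      rw [e, ← even_iff_two_dvd] at this
      rcases Nat.eq_zero_or_pos n with rfl | hpos
      · omega
      · exact (Nat.not_even_iff_odd.mpr ⟨2 ^ (n - 1) - 1, by
          have h1 := Nat.one_le_two_pow (n := n - 1)
          have h2 : 2 ^ n = 2 * 2 ^ (n - 1) := by rw [← pow_succ']; congr 1; omega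
          omega⟩) this
    have h2' : r ∣ 2 ^ (a - c) - 1 := (hr.1.dvd_mul.mp h1).resolve_left fun h' =>
      hr2 ((Nat.prime_dvd_prime_iff_eq hr.1 Nat.prime_two).mp (hr.1.dvd_of_dvd_pow h'))
    by_contra hne
    exact hr.2.2 (a - c) (by omega) (by omega) h2'
  have hfix : ∀ W : AddSubgroup V, ∃ c, Nat.card {w : W // (z : AddMonoid.End V) w = w} = 2 ^ c ∧
      ∀ a, Nat.card W = 2 ^ a → c ≤ a := by
    intro W
    let zh : V →+ V := ((z : AddMonoid.End V) - 1 : AddMonoid.End V)
    let F : AddSubgroup W := (zh.comp W.subtype).ker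
    have hF : ∀ w : W, w ∈ F ↔ (z : AddMonoid.End V) w = w := fun w => sub_eq_zero
    obtain ⟨c, hc⟩ := card_eq_two_pow h2 (F.map W.subtype)
    rw [AddSubgroup.card_map_of_injective W.subtype_injective] at hc
    refine ⟨c, ?_, fun a ha => (Nat.pow_le_pow_iff_right (le_refl 2)).mp
      (ha ▸ hc ▸ Nat.le_of_dvd Nat.card_pos F.card_addSubgroup_dvd_card)⟩
    rw [← hc]
    exact Nat.card_congr (Equiv.subtypeEquivRight fun w => (hF w).symm)
  -- no fixed points at all
  have hn0 : ∀ v : V, (z : AddMonoid.End V) v = v → v = 0 := by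
    obtain ⟨c, hc, hle⟩ := hfix ⊤
    have hT : Nat.card (⊤ : AddSubgroup V) = 2 ^ n := by rw [← hn, AddSubgroup.card_top]
    rcases hcong ⊤ (fun w _ => AddSubgroup.mem_top _) n c hT hc (hle n hT) le_rfl with e | ⟨e, -⟩
    · exfalso
      have : Nat.card {w : (⊤ : AddSubgroup V) // (z : AddMonoid.End V) w = w} =
          Nat.card (⊤ : AddSubgroup V) := by rw [hc, hT, e]
      have hall : ∀ w : (⊤ : AddSubgroup V), (z : AddMonoid.End V) w = w := fun w => by
        obtain ⟨⟨x, hx⟩, rfl⟩ := (Subtype.val_injective.bijective_of_nat_card_le this.ge).2 w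
        exact hx
      have hz1 : z = 1 := Units.ext (AddMonoidHom.ext fun v => hall ⟨v, AddSubgroup.mem_top v⟩)
      exact hr.1.ne_one (by rw [← hz, hz1, orderOf_one])
    · intro v hv
      rw [e, pow_zero, Nat.card_eq_one_iff_unique] at hc
      haveI := hc.1
      exact congrArg (fun x : {w : (⊤ : AddSubgroup V) // (z : AddMonoid.End V) w = w} => ((x.1 : _) : V))
        (Subsingleton.elim (⟨⟨v, AddSubgroup.mem_top v⟩, hv⟩ : {w : (⊤ : AddSubgroup V) // (z : AddMonoid.End V) w = w})
          ⟨⟨0, AddSubgroup.mem_top 0⟩, map_zero _⟩)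
  intro W hW
  obtain ⟨c, hc, hle⟩ := hfix W
  obtain ⟨a, ha⟩ := card_eq_two_pow h2 W
  obtain ⟨han, htop, hbot⟩ := card_le_pow hn ha
  have hc0 : c = 0 := by
    haveI : Subsingleton {w : W // (z : AddMonoid.End V) w = w} :=
      ⟨fun x y => Subtype.ext (Subtype.ext ((hn0 _ x.2).trans (hn0 _ y.2).symm))⟩
    have := Nat.card_of_subsingleton (⟨0, map_zero _⟩ : {w : W // (z : AddMonoid.End V) w = w})
    rw [hc, pow_eq_one_iff] at this
    exact this.resolve_left (by omega)
  rcases hcong W (hW _ rfl) a c ha hc (hle a ha) han with e | ⟨-, e⟩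
  · exact Or.inl (hbot (e ▸ hc0))
  · exact Or.inr (htop e)

theorem card_units_dvd (h2 : ∀ v : V, v + v = 0) (hn : Nat.card V = 2 ^ 6) :
    Nat.card (AddMonoid.End V)ˣ ∣ 20158709760 := by
  haveI : Fact (Nat.Prime 2) := ⟨Nat.prime_two⟩
  letI : Module (ZMod 2) V := AddCommGroup.zmodModule (n := 2) fun x => by rw [two_nsmul]; exact h2 x
  haveI : Module.Finite (ZMod 2) V := Module.Finite.of_finite
  have hr : Module.finrank (ZMod 2) V = 6 := by
    have h := Module.natCard_eq_pow_finrank (K := ZMod 2) (V := V)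
    rw [hn, Nat.card_zmod] at h
    exact (Nat.pow_right_injective le_rfl h).symm
  let b := Module.finBasisOfFinrankEq (ZMod 2) V hr
  let lin : AddMonoid.End V → (V →ₗ[ZMod 2] V) := fun e => AddMonoidHom.toZModLinearMap 2 e
  let f : AddMonoid.End V →* Matrix (Fin 6) (Fin 6) (ZMod 2) :=
    { toFun := fun e => LinearMap.toMatrix b b (lin e)
      map_one' := by
        rw [show lin 1 = LinearMap.id from LinearMap.ext fun _ => rfl, LinearMap.toMatrix_id]
      map_mul' := fun e e' => by
        rw [show lin (e * e') = (lin e).comp (lin e') from LinearMap.ext fun _ => rfl,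
          LinearMap.toMatrix_comp b b b] }
  have hf : Function.Injective (Units.map f) := by
    intro e e' k
    have k1 : lin (e : AddMonoid.End V) = lin (e' : AddMonoid.End V) :=
      (LinearMap.toMatrix b b).injective (congrArg Units.val k)
    exact Units.ext (AddMonoidHom.ext fun x => LinearMap.congr_fun k1 x)
  have h := Subgroup.card_dvd_of_injective _ hf
  rw [Matrix.card_GL_field, ZMod.card] at h
  refine h.trans (dvd_of_eq ?_)
  simp [Fin.prod_univ_succ]

/-- The six-dimensional case: a perfect group acting on a suitable 3-group acts trivially. -/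
theorem six_case (h2 : ∀ v : V, v + v = 0) (hn : Nat.card V = 2 ^ 6) [Nontrivial V]
    {P R : Subgroup (AddMonoid.End V)ˣ} (hP : IsPGroup 3 P) (hPne : P ≠ ⊥)
    (hirr : Irred (Units.val '' (P : Set (AddMonoid.End V)ˣ))) (hR : ⁅R, R⁆ = R)
    (hn' : R ≤ Subgroup.normalizer (P : Set (AddMonoid.End V)ˣ)) :
    R ≤ Subgroup.centralizer (P : Set (AddMonoid.End V)ˣ) := by
  haveI : Fact (Nat.Prime 3) := ⟨Nat.prime_three⟩
  let ψ : R →* MulAut P := P.normalizerMonoidHom.comp (Subgroup.inclusion hn')
  haveI : Finite (MulAut P) := Finite.of_injective (fun e : MulAut P => (e : P → P)) DFunLike.coe_injective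
  have hdvd : Nat.card ψ.range ∣ 20158709760 :=
    ((Subgroup.card_dvd_of_surjective _ ψ.rangeRestrict_surjective).trans R.card_subgroup_dvd_card).trans
      (card_units_dvd h2 hn)
  obtain ⟨m, hm⟩ := IsPGroup.iff_card.mp hP
  have hm4 : m ≤ 4 := by
    have h := P.card_subgroup_dvd_card.trans (card_units_dvd h2 hn)
    rw [hm] at h
    by_contra hlt
    have h5 : (3 : ℕ) ^ 5 ∣ 20158709760 := (pow_dvd_pow 3 (by omega : 5 ≤ m)).trans h
    norm_num at h5
  have hno : ∀ σ : MulAut P, orderOf σ ≠ 5 ∧ orderOf σ ≠ 7 ∧ orderOf σ ≠ 31 := by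
    have key : ∀ (r : ℕ), r.Prime → (r = 5 ∨ r = 7 ∨ r = 31) → ∀ σ : MulAut P, orderOf σ ≠ r := by
      intro r hr hr3 σ hσ
      haveI := Fact.mk hr
      have hz : IsPGroup r (Subgroup.zpowers σ) := IsPGroup.of_card (n := 1) (by rw [Nat.card_zpowers, hσ, pow_one])
      have hfix : ∀ T : Subgroup P, T.Characteristic → ∀ t c : ℕ, Nat.card T = 3 ^ t →
          Nat.card {x : T // σ (x : P) = x} = 3 ^ c → c ≤ t → r ∣ 3 ^ t - 3 ^ c := by
        intro T hT t c ht hc hct
        letI : MulAction (Subgroup.zpowers σ) T :=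
          { smul := fun g x => ⟨(g : MulAut P) (x : P), Subgroup.characteristic_iff_map_le.mp hT g ⟨x, x.2, rfl⟩⟩
            one_smul := fun x => Subtype.ext rfl
            mul_smul := fun g k x => Subtype.ext rfl }
        have h := hz.card_modEq_card_fixedPoints T
        have heq : Nat.card (MulAction.fixedPoints (Subgroup.zpowers σ) T) = Nat.card {x : T // σ (x : P) = x} := by
          refine Nat.card_congr (Equiv.subtypeEquivRight fun x => ⟨fun hx => ?_, fun hx g => ?_⟩)
          · exact congrArg Subtype.val (hx ⟨σ, Subgroup.mem_zpowers σ⟩)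
          · obtain ⟨i, hi⟩ := (mem_powers_iff_mem_zpowers (x := σ)).mpr g.2
            refine Subtype.ext ?_
            show (g : MulAut P) (x : P) = x
            rw [← hi]
            clear hi
            induction i with
            | zero => rfl
            | succ i ih =>
              simp only [pow_succ, MulAut.mul_apply]
              rw [hx, ih]
        rw [heq, ht, hc] at h
        exact (Nat.modEq_iff_dvd' (Nat.pow_le_pow_right (by norm_num) hct)).mp h.symm
      have hC : ∀ T : Subgroup P, ∃ t c, Nat.card T = 3 ^ t ∧ Nat.card {x : T // σ (x : P) = x} = 3 ^ c ∧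
          c ≤ t ∧ t ≤ m ∧ (c = t → ∀ x ∈ T, σ x = x) := by
        intro T
        let F : Subgroup T := (σ.toMonoidHom.comp T.subtype).eqLocus T.subtype
        obtain ⟨t, ht⟩ := IsPGroup.iff_card.mp (hP.to_subgroup T)
        obtain ⟨c, hc⟩ := IsPGroup.iff_card.mp ((hP.to_subgroup T).to_subgroup F)
        refine ⟨t, c, ht, hc, (Nat.pow_le_pow_iff_right (by norm_num)).mp
          (ht ▸ hc ▸ Nat.le_of_dvd Nat.card_pos F.card_subgroup_dvd_card),
          (Nat.pow_le_pow_iff_right (by norm_num : 1 < 3)).mp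
          (hm ▸ ht ▸ Nat.le_of_dvd Nat.card_pos T.card_subgroup_dvd_card), fun e x hx => ?_⟩
        have hF : F = ⊤ := Subgroup.eq_top_of_card_eq F (by rw [hc, ht, e])
        exact (hF.ge (Subgroup.mem_top (⟨x, hx⟩ : T)) : (⟨x, hx⟩ : T) ∈ F)
      obtain ⟨t, c, ht, hc, hct, htm, hall⟩ := hC ⊤
      have htm' : t = m := Nat.pow_right_injective (by norm_num : 2 ≤ 3) (by
        show 3 ^ t = 3 ^ m
        rw [← ht, ← hm, Subgroup.card_top])
      have hne : c ≠ t := fun e => hr.ne_one (by
        rw [← hσ, orderOf_eq_one_iff]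
        exact MulEquiv.ext fun x => hall e x (Subgroup.mem_top x))
      have h1 := hfix ⊤ inferInstance t c ht hc hct
      have h54 : r = 5 ∧ m = 4 := by
        subst htm'
        interval_cases t <;> interval_cases c <;> rcases hr3 with rfl | rfl | rfl <;> first | omega | (norm_num at h1) | exact ⟨rfl, rfl⟩
      obtain ⟨rfl, rfl⟩ := h54
      -- the group is abelian
      haveI : Nontrivial P := (Subgroup.nontrivial_iff_ne_bot _).mpr hPne
      haveI : Nontrivial (Subgroup.center P) := hP.center_nontrivial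
      obtain ⟨t', c', ht', hc', hct', htm'', hall'⟩ := hC (Subgroup.center P)
      have h1' := hfix (Subgroup.center P) inferInstance t' c' ht' hc' hct'
      have ht0 : t' ≠ 0 := fun e => by
        have h := Finite.one_lt_card (α := Subgroup.center P)
        rw [ht', e] at h; simp at h
      have hc0 : c' ≤ c := (Nat.pow_le_pow_iff_right (by norm_num : 1 < 3)).mp (hc ▸ hc' ▸
        Nat.card_le_card_of_injective
          (fun x : {x : Subgroup.center P // σ (x : P) = x} =>
            (⟨⟨(x.1 : P), Subgroup.mem_top _⟩, x.2⟩ : {x : (⊤ : Subgroup P) // σ (x : P) = x}))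
          (fun x y h => Subtype.ext (Subtype.ext (congrArg (fun z : {x : (⊤ : Subgroup P) // σ (x : P) = x} =>
            ((z.1 : (⊤ : Subgroup P)) : P)) h))))
      have ht4 : t' = 4 := by
        subst htm'
        interval_cases c <;> interval_cases c' <;> interval_cases t' <;> first | omega | (norm_num at h1) | (norm_num at h1')
      have hcen : ∀ x y : P, x * y = y * x := fun x y => by
        have htop : Subgroup.center P = ⊤ := Subgroup.eq_top_of_card_eq _ (by rw [ht', hm, ht4])
        exact Subgroup.mem_center_iff.mp (htop.ge (Subgroup.mem_top y)) x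
      haveI : IsCyclic P := cyclic_of_centralizes hirr P (by
        rintro k hk _ ⟨f, hf, rfl⟩
        exact congrArg Units.val (congrArg Subtype.val (hcen ⟨f, hf⟩ ⟨k, hk⟩)))
      obtain ⟨g, hg⟩ := IsCyclic.exists_generator (α := P)
      -- the subgroup of order three is fixed
      have hg81 : orderOf g = 81 := by
        rw [orderOf_eq_card_of_forall_mem_zpowers hg, hm]; norm_num
      have hfix3 : σ (g ^ 27) = g ^ 27 := by
        obtain ⟨i, hi⟩ := (mem_powers_iff_mem_zpowers (x := g)).mpr (hg (σ (g ^ 27)))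
        simp only at hi
        have h3 : (σ (g ^ 27)) ^ 3 = 1 := by
          rw [← map_pow, ← pow_mul, show 27 * 3 = orderOf g by rw [hg81], pow_orderOf_eq_one, map_one]
        rw [← hi, ← pow_mul, ← orderOf_dvd_iff_pow_eq_one, hg81] at h3
        obtain ⟨j, rfl⟩ : 27 ∣ i := by omega
        rw [pow_mul] at hi
        -- powers of order dividing five act trivially on a group of order three
        have h5 : ∀ k : ℕ, (σ ^ k) (g ^ 27) = (g ^ 27) ^ (j ^ k) := by
          intro k
          induction k with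
          | zero => simp
          | succ k ih => rw [pow_succ', MulAut.mul_apply, ih, map_pow, ← hi, ← pow_mul, ← pow_succ']
        have h6 := h5 5
        have hp5 := pow_orderOf_eq_one σ
        rw [hσ] at hp5
        rw [hp5, MulAut.one_apply, ← pow_mul, eq_comm, pow_eq_pow_iff_modEq, hg81,
          Nat.ModEq] at h6
        have hj : j % 3 = 1 := by
          have hX : j ^ 5 % 3 = 1 := by omega
          rw [Nat.pow_mod] at hX
          have hlt := Nat.mod_lt j (by norm_num : 3 > 0)
          interval_cases hj3 : j % 3 <;> simp_all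
        rw [← hi, ← pow_mul, pow_eq_pow_iff_modEq, hg81, Nat.ModEq]
        omega
      have hc1 : c ≠ 0 := by
        intro e
        rw [e, pow_zero, Nat.card_eq_one_iff_unique] at hc
        haveI := hc.1
        have h := congrArg (fun z : {x : (⊤ : Subgroup P) // σ (x : P) = x} => ((z.1 : (⊤ : Subgroup P)) : P))
          (Subsingleton.elim (⟨⟨g ^ 27, Subgroup.mem_top _⟩, hfix3⟩ : {x : (⊤ : Subgroup P) // σ (x : P) = x})
            ⟨⟨1, Subgroup.mem_top _⟩, map_one σ⟩)
        have := orderOf_dvd_of_pow_eq_one h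
        rw [hg81] at this; norm_num at this
      subst htm'
      interval_cases c <;> first | omega | (norm_num at h1)
    exact fun σ => ⟨key 5 (by norm_num) (by simp) σ, key 7 (by norm_num) (by simp) σ, key 31 (by norm_num) (by simp) σ⟩
  have hsol : Group.IsSolvable ψ.range := by
    have hcop : ∀ r : ℕ, r.Prime → (r = 5 ∨ r = 7 ∨ r = 31) → r.Coprime (Nat.card ψ.range) := by
      intro r hr hr3
      refine (Nat.Prime.coprime_iff_not_dvd hr).mpr fun hd => ?_
      haveI := Fact.mk hr
      obtain ⟨σ, hσ⟩ := exists_prime_orderOf_dvd_card' r hd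
      rw [← Subgroup.orderOf_coe] at hσ
      rcases hr3 with rfl | rfl | rfl
      · exact (hno σ).1 hσ
      · exact (hno σ).2.1 hσ
      · exact (hno σ).2.2 hσ
    have h1 : Nat.card ψ.range ∣ 2 ^ 15 * 3 ^ 4 := by
      have hd : Nat.card ψ.range ∣ 2 ^ 15 * 3 ^ 4 * (5 * 7 ^ 2 * 31) := hdvd.trans (dvd_of_eq (by norm_num))
      refine Nat.Coprime.dvd_of_dvd_mul_right ?_ hd
      exact ((((hcop 5 (by norm_num) (by simp)).symm).mul_right
        (((hcop 7 (by norm_num) (by simp)).symm).pow_right 2))).mul_right (hcop 31 (by norm_num) (by simp)).symm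
    obtain ⟨a, b, ha, hb, hab⟩ := Nat.dvd_mul.mp h1
    obtain ⟨i, -, rfl⟩ := (Nat.dvd_prime_pow Nat.prime_two).mp ha
    obtain ⟨j, -, rfl⟩ := (Nat.dvd_prime_pow Nat.prime_three).mp hb
    exact Cfsg.Agent.S0144.result 2 3 i j Nat.prime_two Nat.prime_three hab.symm
  intro r hr
  have hker := perfect_to_solvable ψ.rangeRestrict (R := (⊤ : Subgroup R)) (commutator_of_perfect hR)
  have h1 : ψ ⟨r, hr⟩ = 1 := congrArg Subtype.val (hker (Subgroup.mem_top (⟨r, hr⟩ : R)))
  have h2' : Subgroup.inclusion hn' ⟨r, hr⟩ ∈ P.normalizerMonoidHom.ker := h1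
  rw [Subgroup.normalizerMonoidHom_ker] at h2'
  exact Subgroup.mem_subgroupOf.mp h2'

/-- A perfect group normalizing a transitive group lies in it. -/
theorem perfect_le_transitive (h2 : ∀ v : V, v + v = 0) (X M : Subgroup (AddMonoid.End V)ˣ)
    (htr : ∀ a b : V, a ≠ 0 → b ≠ 0 → ∃ g ∈ X, (g : AddMonoid.End V) a = b)
    (hM : M ≤ Subgroup.normalizer (X : Set (AddMonoid.End V)ˣ)) (hperf : ⁅M, M⁆ = M) : M ≤ X := by
  classical
  obtain ⟨n, hn0⟩ := card_eq_two_pow h2 (⊤ : AddSubgroup V)
  have hn : Nat.card V = 2 ^ n := by rwa [AddSubgroup.card_top] at hn0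
  by_cases hsmall : n ≤ 1
  · intro g _
    have hg : g = 1 := Units.ext (AddMonoidHom.ext fun v => by
      by_contra hne
      have hv : v ≠ 0 := fun h => hne (by rw [h]; exact map_zero _)
      have hgv : (g : AddMonoid.End V) v ≠ 0 := fun h => hv (by
        have h1 : ((g⁻¹ : (AddMonoid.End V)ˣ) : AddMonoid.End V) ((g : AddMonoid.End V) v) = v :=
          DFunLike.congr_fun g.inv_mul v
        rw [h, map_zero] at h1; exact h1.symm)
      have hc : ({0, v, (g : AddMonoid.End V) v} : Finset V).card = 3 := by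
        rw [Finset.card_eq_three]
        exact ⟨_, _, _, Ne.symm hv, Ne.symm hgv, fun h => hne h.symm, rfl⟩
      haveI := Fintype.ofFinite V
      have hle := Finset.card_le_univ ({0, v, (g : AddMonoid.End V) v} : Finset V)
      rw [hc, ← Nat.card_eq_fintype_card, hn] at hle
      have : 2 ^ n ≤ 2 ^ 1 := Nat.pow_le_pow_right two_pos hsmall
      omega)
    rw [hg]; exact one_mem X
  push Not at hsmall
  haveI : Nontrivial V := by
    rw [← Finite.one_lt_card_iff_nontrivial, hn]; exact Nat.one_lt_two_pow (by omega)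
  let Y := Subgroup.normalizer (X : Set (AddMonoid.End V)ˣ)
  have hXY : X ≤ Y := Subgroup.le_normalizer
  haveI : (X.subgroupOf Y).Normal := Subgroup.normal_subgroupOf_of_le_normalizer le_rfl
  obtain ⟨v₀, hv₀⟩ := exists_ne (0 : V)
  -- the order of the group
  letI : MulAction X V :=
    { smul := fun g w => ((g : (AddMonoid.End V)ˣ) : AddMonoid.End V) w
      one_smul := fun w => rfl
      mul_smul := fun g k w => rfl }
  have horb : ∀ v : V, v ≠ 0 → (2 ^ n - 1) * Nat.card (MulAction.stabilizer X v) = Nat.card X := by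
    intro v hv
    have h1 : MulAction.orbit X v = {w | w ≠ 0} := by
      ext w
      refine ⟨?_, fun hw => ?_⟩
      · rintro ⟨g, rfl⟩ hw
        refine hv ?_
        have h3 : (((g : (AddMonoid.End V)ˣ)⁻¹ : (AddMonoid.End V)ˣ) : AddMonoid.End V)
            (((g : (AddMonoid.End V)ˣ) : AddMonoid.End V) v) = v :=
          DFunLike.congr_fun (g : (AddMonoid.End V)ˣ).inv_mul v
        rw [show ((g : (AddMonoid.End V)ˣ) : AddMonoid.End V) v = 0 from hw, map_zero] at h3
        exact h3.symm
      · obtain ⟨g, hg, e⟩ := htr v w hv hw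
        exact ⟨⟨g, hg⟩, e⟩
    have h2' := MulAction.index_stabilizer X v
    rw [h1, show ({w | w ≠ 0} : Set V) = ({0} : Set V)ᶜ from rfl, Set.ncard_compl, Set.ncard_singleton, hn] at h2'
    rw [← h2', Subgroup.index_mul_card]
  suffices h : ∃ (p : ℕ) (_ : Fact p.Prime) (P : Sylow p (X.subgroupOf Y)),
      ∀ R : Subgroup (AddMonoid.End V)ˣ, ⁅R, R⁆ = R →
        R ≤ Subgroup.normalizer (((P : Subgroup _).map (X.subgroupOf Y).subtype).map Y.subtype : Set (AddMonoid.End V)ˣ) →
        R = ⊥ by
    obtain ⟨p, hp, P, hR⟩ := h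
    let L := Subgroup.normalizer ((P : Subgroup _).map (X.subgroupOf Y).subtype : Set Y)
    have hL : Group.IsSolvable L := by
      refine solvable_of_no_perfect fun R hRp => ?_
      have h1 := hR ((R.map L.subtype).map Y.subtype) (perfect_map _ (perfect_map _ hRp)) (by
        refine (Subgroup.map_mono (Subgroup.map_subtype_le R)).trans ?_
        exact Subgroup.le_normalizer_map Y.subtype)
      rw [Subgroup.map_eq_bot_iff_of_injective _ Y.subtype_injective,
        Subgroup.map_eq_bot_iff_of_injective _ L.subtype_injective] at h1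
      exact h1
    haveI : Group.IsSolvable (Y ⧸ X.subgroupOf Y) := by
      refine Group.isSolvable_of_surjective (f := (QuotientGroup.mk' (X.subgroupOf Y)).comp L.subtype) fun q => ?_
      obtain ⟨y, rfl⟩ := QuotientGroup.mk'_surjective _ q
      obtain ⟨l, hl, x, hx, rfl⟩ := Subgroup.mem_sup_of_normal_right.mp
        ((Sylow.normalizer_sup_eq_top P).ge (Subgroup.mem_top y))
      exact ⟨⟨l, hl⟩, by
        rw [MonoidHom.comp_apply, map_mul,
          show QuotientGroup.mk' (X.subgroupOf Y) x = 1 from (QuotientGroup.eq_one_iff x).mpr hx, mul_one]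
        rfl⟩
    intro g hg
    have h3 := perfect_to_solvable (QuotientGroup.mk' (X.subgroupOf Y)) (R := M.subgroupOf Y) (by
      refine Subgroup.map_injective Y.subtype_injective ?_
      rw [Subgroup.map_commutator, Subgroup.subgroupOf_map_subtype, inf_of_le_left hM, hperf])
    rw [QuotientGroup.ker_mk'] at h3
    exact Subgroup.mem_subgroupOf.mp (h3 (Subgroup.mem_subgroupOf.mpr hg : (⟨g, hM hg⟩ : Y) ∈ M.subgroupOf Y))
  have himg : ∀ {p : ℕ} (P : Sylow p (X.subgroupOf Y)),
      ∃ P' : Subgroup (AddMonoid.End V)ˣ,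
        P' = ((P : Subgroup _).map (X.subgroupOf Y).subtype).map Y.subtype ∧ IsPGroup p P' ∧ P' ≤ X := by
    intro p P
    refine ⟨_, rfl, (P.2.map _).map _, ?_⟩
    refine (Subgroup.map_mono (Subgroup.map_subtype_le _)).trans ?_
    rw [Subgroup.subgroupOf_map_subtype]; exact inf_le_left
  have hcardP : ∀ {p : ℕ} (P : Sylow p (X.subgroupOf Y)),
      Nat.card ((((P : Subgroup _).map (X.subgroupOf Y).subtype)).map Y.subtype : Subgroup (AddMonoid.End V)ˣ) =
        Nat.card (P : Subgroup (X.subgroupOf Y)) := fun P => by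
    rw [Subgroup.card_map_of_injective Y.subtype_injective,
      Subgroup.card_map_of_injective (X.subgroupOf Y).subtype_injective]
  have hcardX : Nat.card (X.subgroupOf Y) = Nat.card X :=
    Nat.card_congr (Subgroup.subgroupOfEquivOfLe hXY).toEquiv
  by_cases h6 : n = 6
  · subst h6
    haveI : Fact (Nat.Prime 3) := ⟨Nat.prime_three⟩
    obtain ⟨P⟩ := (inferInstance : Nonempty (Sylow 3 (X.subgroupOf Y)))
    refine ⟨3, inferInstance, P, fun R hR hRn => ?_⟩
    obtain ⟨P', hP', hPp, hPX⟩ := himg P
    rw [← hP'] at hRn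
    obtain ⟨k, hk⟩ := IsPGroup.iff_card.mp hPp
    have hPdvd : ∀ S : Subgroup X, (∃ j, 9 * Nat.card S = 3 ^ j) → 9 * Nat.card S ∣ Nat.card X →
        9 * Nat.card S ∣ 3 ^ k := by
      intro S ⟨j, hj⟩ hd
      rw [hj] at hd ⊢
      rw [← hcardX, ← (P : Subgroup (X.subgroupOf Y)).card_mul_index, ← hcardP P, ← hP', hk] at hd
      exact Nat.Coprime.dvd_of_dvd_mul_right
        (((Nat.prime_three.coprime_iff_not_dvd).mpr P.not_dvd_index).pow_left j) hd
    let P0 : Subgroup X := P'.subgroupOf X
    have hP0 : Nat.card P0 = 3 ^ k := by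
      rw [← hk]; exact Nat.card_congr (Subgroup.subgroupOfEquivOfLe hPX).toEquiv
    have horbit : ∀ v : V, v ≠ 0 → 9 ∣ Nat.card (MulAction.orbit P0 v) := by
      intro v hv
      let S : Subgroup X := (MulAction.stabilizer P0 v).map P0.subtype
      have hS : Nat.card S = Nat.card (MulAction.stabilizer P0 v) :=
        Subgroup.card_map_of_injective P0.subtype_injective
      have hSle : S ≤ MulAction.stabilizer X v := by
        rintro _ ⟨g, hg, rfl⟩; exact hg
      obtain ⟨i, hi⟩ := IsPGroup.iff_card.mp ((IsPGroup.of_card hP0).to_subgroup (MulAction.stabilizer P0 v))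
      have hd : 9 * Nat.card S ∣ Nat.card X := by
        rw [← horb v hv]
        exact Nat.mul_dvd_mul (by norm_num) (Subgroup.card_dvd_of_le hSle)
      have h1 := hPdvd S ⟨i + 2, by rw [hS, hi, pow_add]; ring⟩ hd
      rw [← hP0, ← (MulAction.stabilizer P0 v).index_mul_card, hS] at h1
      rw [Nat.card_coe_set_eq, ← MulAction.index_stabilizer]
      exact Nat.dvd_of_mul_dvd_mul_right Nat.card_pos h1
    have hirr : Irred (Units.val '' (P' : Set (AddMonoid.End V)ˣ)) := by
      intro W hW
      obtain ⟨a, ha⟩ := card_eq_two_pow h2 W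
      obtain ⟨han, htop, hbot⟩ := card_le_pow hn ha
      let T : Type v := {w : W // (w : V) ≠ 0}
      letI : MulAction P0 T :=
        { smul := fun g w => ⟨⟨(((g : X) : (AddMonoid.End V)ˣ) : AddMonoid.End V) (w.1 : V),
            hW _ ⟨_, Subgroup.mem_subgroupOf.mp g.2, rfl⟩ _ w.1.2⟩, fun h => w.2 (by
              have h3 : ((((g : X) : (AddMonoid.End V)ˣ))⁻¹ : (AddMonoid.End V)ˣ).val
                  ((((g : X) : (AddMonoid.End V)ˣ) : AddMonoid.End V) (w.1 : V)) = (w.1 : V) :=
                DFunLike.congr_fun ((g : X) : (AddMonoid.End V)ˣ).inv_mul (w.1 : V)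
              exact h3.symm.trans ((congrArg _ h).trans (map_zero _)))⟩
          one_smul := fun w => Subtype.ext (Subtype.ext rfl)
          mul_smul := fun g k w => Subtype.ext (Subtype.ext rfl) }
      have h9 : 9 ∣ Nat.card T := by
        haveI := Fintype.ofFinite (MulAction.orbitRel.Quotient P0 T)
        rw [Nat.card_congr (MulAction.selfEquivSigmaOrbits P0 T), Nat.card_sigma]
        refine Finset.dvd_sum fun q _ => ?_
        set w := q.out
        have hw : (w.1 : V) ≠ 0 := w.2
        refine dvd_trans (horbit _ hw) (dvd_of_eq (Nat.card_congr ?_))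
        refine (Equiv.ofBijective (fun x : MulAction.orbit P0 w => (⟨((x.1).1 : V), by
          obtain ⟨g, hg⟩ := x.2
          exact ⟨g, by rw [← hg]; rfl⟩⟩ : MulAction.orbit P0 (w.1 : V))) ⟨fun x y h => ?_, ?_⟩).symm
        · exact Subtype.ext (Subtype.ext (Subtype.ext (congrArg (fun z : MulAction.orbit P0 (w.1 : V) => (z : V)) h)))
        · rintro ⟨_, g, rfl⟩
          exact ⟨⟨g • w, g, rfl⟩, rfl⟩
      have hT : Nat.card T = 2 ^ a - 1 := by
        rw [← ha, show Nat.card T = Nat.card ↥(({0} : Set W)ᶜ) from Nat.card_congr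
          (Equiv.subtypeEquivRight fun w => by simp), Nat.card_coe_set_eq, Set.ncard_compl, Set.ncard_singleton]
      rw [hT] at h9
      interval_cases a
      · exact Or.inl (hbot rfl)
      all_goals first
        | exact Or.inr (htop rfl)
        | (norm_num at h9)
    have hPne : P' ≠ ⊥ := by
      intro h
      rcases hirr (AddSubgroup.zmultiples v₀) (fun f hf w hw => by
        obtain ⟨g, hg, rfl⟩ := hf
        rw [h, SetLike.mem_coe, Subgroup.mem_bot] at hg
        rw [hg]; exact hw) with e | e
      · exact hv₀ (AddSubgroup.zmultiples_eq_bot.mp e)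
      · have hc := congrArg (fun A : AddSubgroup V => Nat.card A) e
        simp only [Nat.card_zmultiples, AddSubgroup.card_top, hn] at hc
        have : addOrderOf v₀ ∣ 2 := addOrderOf_dvd_of_nsmul_eq_zero (by rw [two_nsmul]; exact h2 v₀)
        have := Nat.le_of_dvd two_pos this
        omega
    exact perfect_eq_bot hirr hR (six_case h2 hn hPp hPne hirr hR hRn)
  · obtain ⟨r, hr⟩ := Cfsg.Agent.Recog.Zsigmondy.exists_primitive (a := 2) (n := n) le_rfl (by omega)
      (fun h => h6 h.2) (fun ⟨_, m, hm⟩ => by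
        rcases m with _ | m
        · simp at hm
        · rw [pow_succ] at hm; omega)
    haveI := Fact.mk hr.1
    obtain ⟨P⟩ := (inferInstance : Nonempty (Sylow r (X.subgroupOf Y)))
    refine ⟨r, inferInstance, P, fun R hR hRn => ?_⟩
    obtain ⟨P', hP', hPp, hPX⟩ := himg P
    rw [← hP'] at hRn
    have hPne : P' ≠ ⊥ := by
      have hd : r ∣ Nat.card X := hr.2.1.trans (Dvd.intro _ (horb v₀ hv₀))
      intro h
      have h1 := hcardP P
      rw [← hP', h, Subgroup.card_bot] at h1
      exact P.ne_bot_of_dvd_card (hcardX ▸ hd) (Subgroup.eq_bot_of_card_eq _ h1.symm)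
    haveI : Nontrivial P' := (Subgroup.nontrivial_iff_ne_bot _).mpr hPne
    haveI : Nontrivial (Subgroup.center P') := hPp.center_nontrivial
    obtain ⟨z, hz⟩ := exists_prime_orderOf_dvd_card' (G := Subgroup.center P') r (by
      obtain ⟨k, hk, hc⟩ := (hPp.to_subgroup (Subgroup.center P')).nontrivial_iff_card.mp inferInstance
      rw [hc]; exact dvd_pow_self r hk.ne')
    rw [← Subgroup.orderOf_coe, ← Subgroup.orderOf_coe] at hz
    have hirr := irred_of_primitive h2 hn hr hz
    haveI : IsCyclic P' := cyclic_of_centralizes hirr P' (by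
      rintro k hk f rfl
      exact congrArg (fun x : P' => ((x : (AddMonoid.End V)ˣ) : AddMonoid.End V))
        (Subgroup.mem_center_iff.mp z.2 ⟨k, hk⟩).symm)
    refine perfect_eq_bot (hirr.mono ?_) hR (le_centralizer_of_cyclic hR hRn)
    rintro _ rfl
    exact ⟨_, (z : P').2, rfl⟩

end Cfsg.Agent.Grp.OutOmega
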